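import Mathlib
import Cfsg.Agent.Lib.Helper2.Conj

set_option autoImplicit false

namespace Cfsg.Agent.Lib.Helper2.Jordan

open scoped Pointwise
open Cfsg.Agent.Lib.Helper2.Conj

/-- Jordan: a finite transitive group on more than one point has a fixed-point-free element. -/
theorem exists_fixedPointFree {G X : Type*} [Group G] [Finite G] [MulAction G X] [Finite X]
    [MulAction.IsPretransitive G X] (hX : 1 < Nat.card X) : ∃ g : G, ∀ x : X, g • x ≠ x := by
  classical
  by_contra hcon
  push Not at hcon
  haveI := Fintype.ofFinite G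
  haveI := Fintype.ofFinite X
  haveI : Nonempty X := by
    rw [← Finite.card_pos_iff]; omega
  have hB := MulAction.sum_card_fixedBy_eq_card_orbits_mul_card_group G X
  have hU : Nonempty (Unique (MulAction.orbitRel.Quotient G X)) :=
    (MulAction.pretransitive_iff_unique_quotient_of_nonempty G X).mp inferInstance
  obtain ⟨hU⟩ := hU
  have h1 : Fintype.card (MulAction.orbitRel.Quotient G X) = 1 := Fintype.card_eq_one_iff.mpr
    ⟨default, fun y => Subsingleton.elim _ _⟩
  rw [h1, one_mul] at hB
  have h2 : ∀ g : G, 1 ≤ Fintype.card (MulAction.fixedBy X g) := by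
    intro g
    obtain ⟨x, hx⟩ := hcon g
    exact Fintype.card_pos_iff.mpr ⟨⟨x, hx⟩⟩
  have h3 : 1 < Fintype.card (MulAction.fixedBy X (1 : G)) := by
    have : Fintype.card (MulAction.fixedBy X (1 : G)) = Fintype.card X := by
      apply Fintype.card_of_subtype
      intro x
      simp
    rw [this, ← Nat.card_eq_fintype_card]; exact hX
  have h4 : ∑ g : G, 1 < ∑ g : G, Fintype.card (MulAction.fixedBy X g) :=
    Finset.sum_lt_sum (fun g _ => h2 g) ⟨1, Finset.mem_univ _, h3⟩
  rw [hB] at h4
  simp at h4

/-- A finite group is not the union of the conjugates of a proper subgroup. -/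
theorem exists_not_mem_conj {G : Type*} [Group G] [Finite G] (H : Subgroup G) (hH : H ≠ ⊤) :
    ∃ x : G, ∀ g : G, x ∉ MulAut.conj g • H := by
  have hX : 1 < Nat.card (G ⧸ H) := by
    rw [← Subgroup.index_eq_card]
    have h0 : H.index ≠ 0 := Subgroup.index_ne_zero_of_finite
    have h1 : H.index ≠ 1 := fun h => hH (Subgroup.index_eq_one.mp h)
    omega
  obtain ⟨x, hx⟩ := exists_fixedPointFree (G := G) (X := G ⧸ H) hX
  refine ⟨x, fun g hg => hx (g : G ⧸ H) ?_⟩
  rw [mem_conj_smul] at hg
  rw [MulAction.Quotient.smul_coe, smul_eq_mul, eq_comm, QuotientGroup.eq]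
  rwa [← mul_assoc]

end Cfsg.Agent.Lib.Helper2.Jordan
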