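import Mathlib
import Cfsg.Agent.Lib.Helper2.Schmidt
import Cfsg.Agent.Lib.Helper1.SZQuot
import Cfsg.Agent.Lib.Helper1.Cores

set_option autoImplicit false

namespace Cfsg.Agent.Lib.Helper2.Schmidt

open scoped Pointwise
open Cfsg.Agent.Lib.Helper2.Conj Cfsg.Agent.Lib.Helper2.Basic Cfsg.Agent.Lib.Helper1

/-- If elements of `A` commute with those of `B`, then `B` normalizes `A`. -/
theorem le_normalizer_of_commute {G : Type*} [Group G] {A B : Subgroup G}
    (h : ∀ a ∈ A, ∀ b ∈ B, a * b = b * a) : B ≤ Subgroup.normalizer (A : Set G) := by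
  rw [Subgroup.le_normalizer_iff]
  intro b hb a ha
  rw [← h a ha b hb]
  simpa using ha

theorem sylow_normal_of_normal_nilpotent {G : Type*} [Group G] [Finite G] (M : Subgroup G)
    [M.Normal] (hM : Group.IsNilpotent M) {r : ℕ} [Fact r.Prime] (hr : Nat.Coprime M.index r)
    (R : Sylow r G) : (R : Subgroup G).Normal := by
  have hRM : (R : Subgroup G) ≤ M := by
    rw [← Subgroup.relIndex_eq_one]
    have h1 : M.relIndex R ∣ M.index := Subgroup.relIndex_dvd_index_of_normal M R
    obtain ⟨k, hk⟩ := IsPGroup.iff_card.mp R.isPGroup'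
    have h2 : M.relIndex R ∣ r ^ k := hk ▸ Subgroup.relIndex_dvd_card M R
    exact Nat.eq_one_of_dvd_coprimes (Nat.Coprime.pow_right k hr) h1 h2
  have hnorm : ((R.subtype hRM : Sylow r M) : Subgroup M).Normal := inferInstance
  haveI := Sylow.characteristic_of_normal _ hnorm
  have h5 : (((R.subtype hRM : Sylow r M) : Subgroup M).map M.subtype).Normal :=
    ConjAct.normal_of_characteristic_of_normal
  rw [Sylow.coe_subtype, Subgroup.map_subgroupOf_eq_of_le hRM] at h5
  exact h5

theorem schmidt_structure {G : Type*} [Group G] [Finite G] (hnn : ¬ Group.IsNilpotent G)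
    (h : ∀ H : Subgroup G, H ≠ ⊤ → Group.IsNilpotent H) :
    ∃ p q : ℕ, p.Prime ∧ q.Prime ∧ p ≠ q ∧ ∃ (P : Sylow p G) (Q : Sylow q G),
      IsCyclic (P : Subgroup G) ∧ (Q : Subgroup G).Normal ∧ (P : Subgroup G) ⊔ Q = ⊤ ∧
      ¬ (P : Subgroup G).Normal := by
  haveI := isSolvable_of_proper_nilpotent h
  haveI : Nontrivial G := by
    by_contra hs
    rw [not_nontrivial_iff_subsingleton] at hs
    exact hnn inferInstance
  obtain ⟨M, hMn, hMp⟩ := exists_normal_prime_index (G := G)
  set p := M.index with hp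
  haveI : Fact p.Prime := ⟨hMp⟩
  have hMt : M ≠ ⊤ := by
    intro ht
    rw [hp, ht, Subgroup.index_top] at hMp
    exact Nat.not_prime_one hMp
  have hMnil := h M hMt
  have hall : ∀ (r : ℕ) [Fact r.Prime], r ≠ p → ∀ R : Sylow r G, (R : Subgroup G).Normal := by
    intro r _ hr R
    exact sylow_normal_of_normal_nilpotent M hMnil
      ((Nat.coprime_primes hMp Fact.out).mpr (Ne.symm hr)) R
  obtain ⟨P⟩ : Nonempty (Sylow p G) := inferInstance
  have hPn : ¬ (P : Subgroup G).Normal := by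
    intro hPn
    apply hnn
    have htf := (Group.isNilpotent_of_finite_tfae (G := G)).out 0 3
    rw [htf]
    intro r hr R
    by_cases hrp : r = p
    · subst hrp
      haveI := Sylow.unique_of_normal P hPn
      rw [Subsingleton.elim R P]; exact hPn
    · exact hall r hrp R
  obtain ⟨q, hq, hqp, Q, hPQ⟩ : ∃ q : ℕ, q.Prime ∧ q ≠ p ∧ ∃ Q : Sylow q G,
      (P : Subgroup G) ⊔ Q = ⊤ := by
    by_contra hcon
    push Not at hcon
    apply hPn
    rw [← Subgroup.normalizer_eq_top_iff]
    apply eq_top_of_sylow_le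
    intro r hr
    by_cases hrp : r = p
    · subst hrp
      exact ⟨P, Subgroup.le_normalizer⟩
    · obtain ⟨R⟩ : Nonempty (Sylow r G) := inferInstance
      refine ⟨R, ?_⟩
      have h1 := h _ (hcon r hr.out hrp R)
      exact le_normalizer_of_commute
        (commute_of_le_nilpotent h1 le_sup_left le_sup_right (Ne.symm hrp) P.2 R.2)
  haveI : Fact q.Prime := ⟨hq⟩
  haveI hQn := hall q hqp Q
  refine ⟨p, q, hMp, hq, Ne.symm hqp, P, Q, ?_, hQn, hPQ, hPn⟩
  obtain ⟨x, hxP, hx⟩ : ∃ x ∈ (P : Subgroup G), Subgroup.zpowers x ⊔ (Q : Subgroup G) = ⊤ := by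
    by_contra hcon
    push Not at hcon
    apply hPn
    rw [← Subgroup.normalizer_eq_top_iff, eq_top_iff, ← hPQ]
    refine sup_le Subgroup.le_normalizer ?_
    apply le_normalizer_of_commute
    intro a ha b hb
    have h1 := h _ (hcon a ha)
    have hz : Subgroup.zpowers a ≤ (P : Subgroup G) := by rw [Subgroup.zpowers_le]; exact ha
    exact commute_of_le_nilpotent h1 le_sup_left le_sup_right (Ne.symm hqp) (P.2.to_le hz) Q.2
      a (Subgroup.mem_zpowers a) b hb
  have hz : Subgroup.zpowers x ≤ (P : Subgroup G) := by rw [Subgroup.zpowers_le]; exact hxP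
  have hdis : (P : Subgroup G) ⊓ Q = ⊥ :=
    (IsPGroup.disjoint_of_ne p q (Ne.symm hqp) _ _ P.2 Q.2).eq_bot
  have hdis' : Subgroup.zpowers x ⊓ (Q : Subgroup G) = ⊥ :=
    le_bot_iff.mp (hdis ▸ inf_le_inf_right _ hz)
  have c1 := card_sup_mul_card_inf (P : Subgroup G) (Q : Subgroup G)
  have c2 := card_sup_mul_card_inf (Subgroup.zpowers x) (Q : Subgroup G)
  rw [hPQ, hdis] at c1
  rw [hx, hdis'] at c2
  have c3 : Nat.card (P : Subgroup G) = Nat.card (Subgroup.zpowers x) :=
    Nat.eq_of_mul_eq_mul_right Nat.card_pos (c1.symm.trans c2)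
  have e : Subgroup.zpowers x = (P : Subgroup G) := Subgroup.eq_of_le_of_card_ge hz c3.le
  rw [← e]
  infer_instance

end Cfsg.Agent.Lib.Helper2.Schmidt
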