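import Mathlib
import Cfsg.Agent.Lib.Helper2.Conj

set_option autoImplicit false

namespace Cfsg.Agent.Lib.Helper2.SylowUtil

open scoped Pointwise
open Cfsg.Agent.Lib.Helper2.Conj

variable {G : Type*} [Group G]

/-- The orbit of a Sylow subgroup `Q` under a `p`-subgroup `H` has `|H : H ∩ Q|` elements. -/
theorem relIndex_eq_ncard_orbit {p : ℕ} (H : Subgroup G) (hH : IsPGroup p H) (Q : Sylow p G) :
    (Q : Subgroup G).relIndex H = (MulAction.orbit H Q).ncard := by
  rw [← MulAction.index_stabilizer]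
  have h1 : MulAction.stabilizer H Q = (Subgroup.normalizer ((Q : Subgroup G) : Set G)).subgroupOf H := by
    ext x
    rw [MulAction.mem_stabilizer_iff, Subgroup.mem_subgroupOf, Subgroup.smul_def,
      Sylow.smul_eq_iff_mem_normalizer]
    rfl
  rw [h1, ← Subgroup.relIndex, ← Subgroup.inf_relIndex_left, ← hH.inf_normalizer_sylow,
    Subgroup.inf_relIndex_left]
  rfl

theorem relIndex_le_card_sylow {p : ℕ} [Finite (Sylow p G)] (H : Subgroup G) (hH : IsPGroup p H)
    (Q : Sylow p G) : (Q : Subgroup G).relIndex H ≤ Nat.card (Sylow p G) := by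
  rw [relIndex_eq_ncard_orbit H hH Q, ← Set.ncard_univ]
  exact Set.ncard_le_ncard (Set.subset_univ _) (Set.toFinite _)

/-- Sylow's theorem inside a subgroup `N` containing the Sylow subgroup `P`. -/
theorem exists_conj_le_in [Finite G] {p : ℕ} [Fact p.Prime] (N : Subgroup G) (P : Sylow p G)
    (hPN : (P : Subgroup G) ≤ N) (R : Subgroup G) (hR : IsPGroup p R) (hRN : R ≤ N) :
    ∃ n ∈ N, MulAut.conj n • R ≤ (P : Subgroup G) := by
  have hR' : IsPGroup p (R.subgroupOf N) := hR.comap_of_injective N.subtype N.subtype_injective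
  obtain ⟨T, hT⟩ := hR'.exists_le_sylow
  obtain ⟨n, hn⟩ := MulAction.exists_smul_eq N T (P.subtype hPN)
  refine ⟨n, n.2, ?_⟩
  intro x hx
  rw [mem_conj_smul] at hx
  have h1 : (⟨(n : G)⁻¹ * x * n, hRN hx⟩ : N) ∈ T := hT (Subgroup.mem_subgroupOf.mpr hx)
  have h2 : n * (⟨(n : G)⁻¹ * x * n, hRN hx⟩ : N) * n⁻¹ ∈ ((n • T : Sylow p N) : Subgroup N) := by
    rw [Sylow.coe_subgroup_smul, mem_conj_smul]
    have h3 : n⁻¹ * (n * (⟨(n : G)⁻¹ * x * n, hRN hx⟩ : N) * n⁻¹) * n
        = (⟨(n : G)⁻¹ * x * n, hRN hx⟩ : N) := by group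
    rw [h3]; exact h1
  rw [hn, Sylow.coe_subtype, Subgroup.mem_subgroupOf] at h2
  convert h2 using 1
  simp only [Subgroup.coe_mul, Subgroup.coe_inv]
  group

end Cfsg.Agent.Lib.Helper2.SylowUtil
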