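import Mathlib
import Cfsg.Agent.Lib.Helper2.Conj

set_option autoImplicit false

namespace Cfsg.Agent.Lib.Helper2.Subnormal

open scoped Pointwise
open Cfsg.Agent.Lib.Helper2.Conj

variable {G : Type*} [Group G]

theorem subgroupOf_isSubnormal_of_le {S N H : Subgroup G} (hNH : N ≤ H)
    (h : (S.subgroupOf H).IsSubnormal) : (S.subgroupOf N).IsSubnormal := by
  have : S.subgroupOf N = (S.subgroupOf H).comap (Subgroup.inclusion hNH) := by
    ext x
    simp [Subgroup.mem_subgroupOf]
  rw [this]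
  exact h.comap _

/-- normalizer of a conjugate. -/
theorem le_normalizer_conj_smul {N K : Subgroup G} {h : G}
    (hN : h ∈ Subgroup.normalizer (N : Set G)) (hK : N ≤ Subgroup.normalizer (K : Set G)) :
    N ≤ Subgroup.normalizer ((MulAut.conj h • K : Subgroup G) : Set G) := by
  intro n hn
  rw [← conj_smul_eq_iff_mem_normalizer, ← conj_mul_smul]
  have h1 : h⁻¹ * n * h ∈ N := by
    have := (Subgroup.mem_normalizer_iff.mp (inv_mem hN) n).mp hn
    simpa using this
  have h2 := conj_smul_eq_iff_mem_normalizer.mpr (hK h1)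
  have : n * h = h * (h⁻¹ * n * h) := by group
  rw [this, conj_mul_smul, h2]

theorem exists_minimal_normalized [Finite G] (N M : Subgroup G) (hM : M ≠ ⊥)
    (hN : N ≤ Subgroup.normalizer (M : Set G)) :
    ∃ M1 ≤ M, M1 ≠ ⊥ ∧ N ≤ Subgroup.normalizer (M1 : Set G) ∧
      ∀ K ≤ M1, N ≤ Subgroup.normalizer (K : Set G) → K = ⊥ ∨ K = M1 := by
  obtain ⟨M1, hM1, hmin⟩ := (Set.toFinite {K : Subgroup G | K ≤ M ∧ K ≠ ⊥ ∧
    N ≤ Subgroup.normalizer (K : Set G)}).exists_minimal ⟨M, le_rfl, hM, hN⟩
  refine ⟨M1, hM1.1, hM1.2.1, hM1.2.2, fun K hK hNK => ?_⟩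
  by_cases hb : K = ⊥
  · exact Or.inl hb
  · exact Or.inr (le_antisymm hK (hmin ⟨hK.trans hM1.1, hb, hNK⟩ hK))

theorem minimal_aux [Finite G] : ∀ n : ℕ, ∀ H S M : Subgroup G, Nat.card H = n → S ≤ H →
    (S.subgroupOf H).IsSubnormal → M ≤ H → H ≤ Subgroup.normalizer (M : Set G) →
    (∀ K ≤ M, H ≤ Subgroup.normalizer (K : Set G) → K = ⊥ ∨ K = M) →
    M ≤ Subgroup.normalizer (S : Set G) := by
  intro n
  induction n using Nat.strong_induction_on with
  | _ n ih =>
  intro H S M hn hSH hS hMH hHM hmin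
  by_cases hSH' : S.subgroupOf H = ⊤
  · have : S = H := le_antisymm hSH (Subgroup.subgroupOf_eq_top.mp hSH')
    rw [this]
    exact hMH.trans Subgroup.le_normalizer
  obtain ⟨N', hN'n, hSN', hN'lt⟩ := hS.exists_normal_and_le_and_lt_top_of_ne hSH'
  set N := N'.map H.subtype with hNdef
  have hNH : N ≤ H := Subgroup.map_subtype_le N'
  have hSN : S ≤ N := by
    intro s hs
    exact ⟨⟨s, hSH hs⟩, hSN' (Subgroup.mem_subgroupOf.mpr hs), rfl⟩
  have hHN : H ≤ Subgroup.normalizer (N : Set G) := by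
    intro h hh
    rw [Subgroup.mem_normalizer_iff]
    intro x
    constructor
    · rintro ⟨y, hy, rfl⟩
      exact ⟨⟨h, hh⟩ * y * ⟨h, hh⟩⁻¹, hN'n.conj_mem y hy _, rfl⟩
    · rintro ⟨y, hy, hyx⟩
      refine ⟨⟨h, hh⟩⁻¹ * y * ⟨h, hh⟩, ?_, ?_⟩
      · have := hN'n.conj_mem y hy ⟨h, hh⟩⁻¹
        simpa using this
      · simp only [Subgroup.subtype_apply, Subgroup.coe_mul, Subgroup.coe_inv] at hyx ⊢
        rw [hyx]; group
  have hNcard : Nat.card N < n := by
    rw [← hn]
    refine Nat.lt_of_le_of_ne (Subgroup.card_le_of_le hNH) ?_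
    intro hcEq
    have hEq : N = H := Subgroup.eq_of_le_of_card_ge hNH hcEq.ge
    apply hN'lt.ne
    rw [eq_top_iff]
    intro x _
    have hx : (x : G) ∈ N := by rw [hEq]; exact x.2
    obtain ⟨y, hy, hyx⟩ := hx
    have : y = x := Subtype.ext hyx
    exact this ▸ hy
  have hinf : H ≤ Subgroup.normalizer ((M ⊓ N : Subgroup G) : Set G) := by
    intro h hh
    rw [← conj_smul_eq_iff_mem_normalizer]
    apply conj_smul_eq_of_ge
    refine le_inf ?_ ?_
    · exact (conj_smul_mono inf_le_left).trans (conj_smul_eq_iff_mem_normalizer.mpr (hHM hh)).le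
    · exact (conj_smul_mono inf_le_right).trans (conj_smul_eq_iff_mem_normalizer.mpr (hHN hh)).le
  rcases hmin _ inf_le_left hinf with hbot | htop
  · -- M and N commute
    have hcomm : ∀ m ∈ M, ∀ s ∈ S, m * s * m⁻¹ = s := by
      intro m hm s hs
      have h1 : m * s * m⁻¹ * s⁻¹ ∈ M ⊓ N := by
        refine Subgroup.mem_inf.mpr ⟨?_, ?_⟩
        · have := (Subgroup.mem_normalizer_iff.mp (hHM (hSH hs)) m⁻¹).mp (inv_mem hm)
          have h2 := mul_mem hm this
          have h3 : m * s * m⁻¹ * s⁻¹ = m * (s * m⁻¹ * s⁻¹) := by group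
          rw [h3]; exact h2
        · have := (Subgroup.mem_normalizer_iff.mp (hHN (hMH hm)) s).mp (hSN hs)
          exact mul_mem this (inv_mem (hSN hs))
      rw [hbot, Subgroup.mem_bot] at h1
      exact mul_inv_eq_one.mp h1
    intro m hm
    rw [Subgroup.mem_normalizer_iff]
    intro s
    constructor
    · intro hs; rw [hcomm m hm s hs]; exact hs
    · intro hs
      have := hcomm m⁻¹ (inv_mem hm) _ hs
      have h2 : m⁻¹ * (m * s * m⁻¹) * m⁻¹⁻¹ = s := by group
      rw [h2] at this
      rw [this]; exact hs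
  · have hMN : M ≤ N := inf_eq_left.mp htop
    by_cases hMb : M = ⊥
    · rw [hMb]; exact bot_le
    obtain ⟨M1, hM1M, hM1b, hNM1, hM1min⟩ := exists_minimal_normalized N M hMb (hNH.trans hHM)
    have key : ∀ h ∈ H, MulAut.conj h • M1 ≤ Subgroup.normalizer (S : Set G) := by
      intro h hh
      have hle : MulAut.conj h • M1 ≤ M :=
        (conj_smul_mono hM1M).trans (conj_smul_eq_iff_mem_normalizer.mpr (hHM hh)).le
      refine ih _ hNcard N S _ rfl hSN (subgroupOf_isSubnormal_of_le hNH hS) (hle.trans hMN)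
        (le_normalizer_conj_smul (hHN hh) hNM1) ?_
      intro K hK hNK
      have h1 : MulAut.conj h⁻¹ • K ≤ M1 := by
        have := conj_smul_mono (g := h⁻¹) hK
        rwa [conj_inv_smul_smul] at this
      rcases hM1min _ h1 (le_normalizer_conj_smul (inv_mem (hHN hh)) hNK) with hb | he
      · left
        have := congrArg (fun X => MulAut.conj h • X) hb
        simpa [conj_smul_inv_smul] using this
      · right
        rw [← he, conj_smul_inv_smul]
    set J : Subgroup G := ⨆ h : H, MulAut.conj (h : G) • M1 with hJ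
    have hJM : J ≤ M := iSup_le fun h =>
      (conj_smul_mono hM1M).trans (conj_smul_eq_iff_mem_normalizer.mpr (hHM h.2)).le
    have hM1J : M1 ≤ J := by
      have := le_iSup (fun h : H => MulAut.conj (h : G) • M1) 1
      simpa [conj_one_smul] using this
    have hHJ : H ≤ Subgroup.normalizer (J : Set G) := by
      intro h hh
      rw [← conj_smul_eq_iff_mem_normalizer]
      apply conj_smul_eq_of_ge
      rw [smul_eq_map, Subgroup.map_le_iff_le_comap]
      refine iSup_le fun k => ?_
      rw [← Subgroup.map_le_iff_le_comap, ← smul_eq_map, ← conj_mul_smul]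
      have h3 : h * (k : G) = (((⟨h, hh⟩ : H) * k : H) : G) := rfl
      rw [h3, hJ]
      exact le_iSup (fun h : H => MulAut.conj (h : G) • M1) _
    rcases hmin J hJM hHJ with hb | he
    · exact absurd (le_bot_iff.mp (hb ▸ hM1J)) hM1b
    · rw [← he]
      exact iSup_le fun h => key h h.2

/-- A minimal normal subgroup of a finite group normalizes every subnormal subgroup. -/
theorem minimal_normal_le_normalizer [Finite G] {S M : Subgroup G} (hS : S.IsSubnormal)
    (hM : M.Normal) (hmin : ∀ K : Subgroup G, K.Normal → K ≤ M → K = ⊥ ∨ K = M) :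
    M ≤ Subgroup.normalizer (S : Set G) := by
  refine minimal_aux _ ⊤ S M rfl le_top (hS.subgroupOf) le_top ?_ ?_
  · rw [Subgroup.normalizer_eq_top]
  · intro K hK hn
    exact hmin K (Subgroup.normalizer_eq_top_iff.mp (top_le_iff.mp hn)) hK

theorem exists_minimal_normal [Finite G] [Nontrivial G] :
    ∃ M : Subgroup G, M.Normal ∧ M ≠ ⊥ ∧ ∀ K : Subgroup G, K.Normal → K ≤ M → K = ⊥ ∨ K = M := by
  obtain ⟨M1, hM1, hmin⟩ := (Set.toFinite {K : Subgroup G | K.Normal ∧ K ≠ ⊥}).exists_minimal
    ⟨⊤, inferInstance, top_ne_bot⟩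
  refine ⟨M1, hM1.1, hM1.2, fun K hK hKM => ?_⟩
  by_cases hb : K = ⊥
  · exact Or.inl hb
  · exact Or.inr (le_antisymm hKM (hmin ⟨hK, hb⟩ hKM))

theorem sup_aux : ∀ n : ℕ, ∀ (G : Type*) [Group G] [Finite G], Nat.card G = n →
    ∀ S T : Subgroup G, S.IsSubnormal → T.IsSubnormal → (S ⊔ T).IsSubnormal := by
  intro n
  induction n using Nat.strong_induction_on with
  | _ n ih =>
  intro G _ _ hn S T hS hT
  rcases subsingleton_or_nontrivial G with hsub | hnt
  · rw [Subsingleton.elim (S ⊔ T) ⊤]; exact Subgroup.IsSubnormal.top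
  obtain ⟨M, hMn, hMb, hMmin⟩ := exists_minimal_normal (G := G)
  have hcard : Nat.card (G ⧸ M) < n := by
    rw [← hn, ← Subgroup.index_eq_card, ← Subgroup.index_mul_card M]
    have h1 : 1 < Nat.card M := by
      rw [Finite.one_lt_card_iff_nontrivial]
      exact (Subgroup.nontrivial_iff_ne_bot M).mpr hMb
    have h2 : 0 < M.index := Nat.pos_of_ne_zero (Subgroup.index_ne_zero_of_finite)
    nlinarith
  have h1 := ih _ hcard (G ⧸ M) rfl _ _ (hS.map (QuotientGroup.mk'_surjective M))
    (hT.map (QuotientGroup.mk'_surjective M))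
  have h2 := h1.comap (QuotientGroup.mk' M)
  rw [← Subgroup.map_sup, Subgroup.comap_map_eq, QuotientGroup.ker_mk'] at h2
  refine Subgroup.IsSubnormal.trans le_sup_left ?_ h2
  apply Subgroup.Normal.isSubnormal
  rw [Subgroup.normal_subgroupOf_iff_le_normalizer le_sup_left]
  refine sup_le Subgroup.le_normalizer ?_
  intro m hm
  have hmS := conj_smul_eq_iff_mem_normalizer.mpr (minimal_normal_le_normalizer hS hMn hMmin hm)
  have hmT := conj_smul_eq_iff_mem_normalizer.mpr (minimal_normal_le_normalizer hT hMn hMmin hm)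
  rw [← conj_smul_eq_iff_mem_normalizer, smul_eq_map, Subgroup.map_sup, ← smul_eq_map,
    ← smul_eq_map, hmS, hmT]

/-- Wielandt: the join of two subnormal subgroups of a finite group is subnormal. -/
theorem isSubnormal_sup [Finite G] {S T : Subgroup G} (hS : S.IsSubnormal) (hT : T.IsSubnormal) :
    (S ⊔ T).IsSubnormal :=
  sup_aux _ G rfl S T hS hT

theorem isSubnormal_sSup [Finite G] (S : Set (Subgroup G)) (h : ∀ U ∈ S, U.IsSubnormal) :
    (sSup S).IsSubnormal := by
  have hfin : S.Finite := Set.toFinite S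
  induction S, hfin using Set.Finite.induction_on with
  | empty => rw [sSup_empty]; exact Subgroup.IsSubnormal.bot
  | insert _ _ ih =>
    rw [sSup_insert]
    exact isSubnormal_sup (h _ (Set.mem_insert _ _))
      (ih fun U hU => h U (Set.mem_insert_of_mem _ hU))

theorem isSubnormal_iSup [Finite G] {ι : Sort*} (f : ι → Subgroup G)
    (h : ∀ i, (f i).IsSubnormal) : (⨆ i, f i).IsSubnormal := by
  apply isSubnormal_sSup
  rintro _ ⟨i, rfl⟩
  exact h i

/-- A subnormal non-normal subgroup has a different conjugate inside its normalizer. -/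
theorem exists_conj_le_normalizer_aux {K : Subgroup G} (hK : K.IsSubnormal) :
    ∀ H ≤ K, K ≤ Subgroup.normalizer (H : Set G) →
      H.Normal ∨ ∃ g : G, MulAut.conj g • H ≠ H ∧
        MulAut.conj g • H ≤ Subgroup.normalizer (H : Set G) := by
  induction hK with
  | top =>
    intro H _ hn
    exact Or.inl (Subgroup.normalizer_eq_top_iff.mp (top_le_iff.mp hn))
  | step K K' hle hK' hN ih =>
    intro H hHK hKn
    by_cases hc : K' ≤ Subgroup.normalizer (H : Set G)
    · exact ih H (hHK.trans hle) hc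
    · right
      obtain ⟨g, hg, hgn⟩ := SetLike.not_le_iff_exists.mp hc
      refine ⟨g, fun h => hgn (conj_smul_eq_iff_mem_normalizer.mp h), ?_⟩
      have hgK : g ∈ Subgroup.normalizer (K : Set G) :=
        (Subgroup.normal_subgroupOf_iff_le_normalizer hle).mp hN hg
      exact ((conj_smul_mono hHK).trans (conj_smul_eq_iff_mem_normalizer.mpr hgK).le).trans hKn

theorem exists_conj_le_normalizer {H : Subgroup G} (hH : H.IsSubnormal) :
    H.Normal ∨ ∃ g : G, MulAut.conj g • H ≠ H ∧
        MulAut.conj g • H ≤ Subgroup.normalizer (H : Set G) :=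
  exists_conj_le_normalizer_aux hH H le_rfl Subgroup.le_normalizer

end Cfsg.Agent.Lib.Helper2.Subnormal
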