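import Mathlib
import Cfsg.Prelude.Def_Blocks
import Cfsg.Agent.Lib.Helper2.BlockSM4
import Cfsg.Agent.Lib.Helper2.BlockBr2

set_option autoImplicit false
set_option linter.unusedSectionVars false
set_option linter.unusedVariables false
set_option linter.style.haveILetI false

/-! Consequences of the second main theorem: preparation. -/

namespace Cfsg.Agent.Lib.Helper2.BlockSM5

open Cfsg Cfsg.Agent.Lib.Helper7.CharIrr Cfsg.Agent.Lib.Helper7.CharOrth
  Cfsg.Agent.Lib.Helper7.CharIntegral Cfsg.Agent.Lib.Helper7.CharMore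
  Cfsg.Agent.Lib.Helper7.CharClassAlg Cfsg.Agent.Lib.Helper7.CharComplete
  Cfsg.Agent.Lib.Helper2.LocRing
  Cfsg.Agent.Lib.Helper2.BlockZ Cfsg.Agent.Lib.Helper2.BlockFix Cfsg.Agent.Lib.Helper2.BlockOrth
  Cfsg.Agent.Lib.Helper2.BlockLam Cfsg.Agent.Lib.Helper2.BlockBr
  Cfsg.Agent.Lib.Helper2.BlockSub Cfsg.Agent.Lib.Helper2.BlockSM4 Cfsg.Agent.Lib.Helper2.BlockBr2
open scoped ComplexConjugate

section PPart

variable {G : Type*} [Group G] [Finite G]

/-- the `p`-part is unique -/
theorem isPPart_unique {p : ℕ} (hp : p.Prime) {t x x' : G} (h : IsPPart p t x)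
    (h' : IsPPart p t x') : x = x' := by
  have hN : Nat.card G ≠ 0 := Nat.card_pos.ne'
  set N := Nat.card G with hNdef
  set k := N.factorization p with hk
  set r := N / p ^ k with hr
  have hNr : p ^ k * r = N := Nat.ordProj_mul_ordCompl_eq_self N p
  have hpr : ¬ p ∣ r := Nat.not_dvd_ordCompl hp hN
  have hcop : Nat.Coprime (p ^ k) r :=
    Nat.Coprime.pow_left k ((Nat.Prime.coprime_iff_not_dvd hp).mpr hpr)
  have hb := Nat.gcd_eq_gcd_ab (p ^ k) r
  rw [hcop] at hb
  set A := Nat.gcdA (p ^ k) r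
  set B := Nat.gcdB (p ^ k) r
  have key : ∀ z : G, IsPPart p t z → z = t ^ ((r : ℤ) * B) := by
    rintro z ⟨y, hzy, hc, ⟨j, hj⟩, hy⟩
    have h1 : y ^ r = 1 := by
      have h2 : orderOf y ∣ p ^ k * r := by rw [hNr]; exact orderOf_dvd_natCard y
      have h3 : Nat.Coprime (orderOf y) (p ^ k) :=
        Nat.Coprime.pow_right k ((Nat.Prime.coprime_iff_not_dvd hp).mpr hy).symm
      exact orderOf_dvd_iff_pow_eq_one.mp (h3.dvd_of_dvd_mul_left h2)
    have h2 : z ^ (p ^ k) = 1 := by
      have h3 : p ^ j ∣ N := by rw [← hj]; exact orderOf_dvd_natCard z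
      have h4 : j ≤ k := (hp.pow_dvd_iff_le_factorization hN).mp h3
      apply orderOf_dvd_iff_pow_eq_one.mp
      rw [hj]
      exact pow_dvd_pow p h4
    rw [← hzy, hc.mul_zpow]
    have h3 : y ^ ((r : ℤ) * B) = 1 := by rw [zpow_mul, zpow_natCast, h1, one_zpow]
    have h4 : z ^ ((r : ℤ) * B) = z := by
      have e : (r : ℤ) * B = 1 - ((p ^ k : ℕ) : ℤ) * A := by
        have : (1 : ℤ) = ((p ^ k : ℕ) : ℤ) * A + (r : ℤ) * B := by exact_mod_cast hb
        linarith
      rw [e, zpow_sub, zpow_one, zpow_mul, zpow_natCast, h2, one_zpow, inv_one, mul_one]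
    rw [h3, h4, mul_one]
  rw [key x h, key x' h']

theorem isPPart_conj {p : ℕ} {t x : G} (h : IsPPart p t x) (c : G) :
    IsPPart p (c * t * c⁻¹) (c * x * c⁻¹) := by
  obtain ⟨y, hxy, hc, ⟨j, hj⟩, hy⟩ := h
  refine ⟨c * y * c⁻¹, ?_, ?_, ⟨j, ?_⟩, ?_⟩
  · rw [← hxy]; group
  · have : x * y = y * x := hc
    change c * x * c⁻¹ * (c * y * c⁻¹) = c * y * c⁻¹ * (c * x * c⁻¹)
    calc c * x * c⁻¹ * (c * y * c⁻¹) = c * (x * y) * c⁻¹ := by group
      _ = c * (y * x) * c⁻¹ := by rw [this]
      _ = c * y * c⁻¹ * (c * x * c⁻¹) := by group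
  · have : orderOf (c * x * c⁻¹) = orderOf x := by
      have := orderOf_injective (MulAut.conj c).toMonoidHom (MulAut.conj c).injective x
      exact this
    rw [this, hj]
  · have : orderOf (c * y * c⁻¹) = orderOf y := by
      have := orderOf_injective (MulAut.conj c).toMonoidHom (MulAut.conj c).injective y
      exact this
    rw [this]
    exact hy

end PPart

variable {G : Type*} [Group G] [Fintype G]

theorem blockPart_eq_sum (B : Set (IrrCharacter G)) {ϑ : G → ℂ} (hϑ : IsClassFunction G ϑ)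
    (g : G) : blockPart B ϑ g = ∑ k, blockCoeff B k * ϑ (k * g) := by
  classical
  haveI := Fintype.ofFinite (IrrCharacter G)
  have h1 : ∀ k, ϑ (k * g) = ∑ χ : IrrCharacter G, classInner ϑ χ * (χ : G → ℂ) (k * g) := by
    intro k
    conv_lhs => rw [classFunction_eq_sum hϑ]
    simp only [Finset.sum_apply, Pi.smul_apply, smul_eq_mul]
  have h2 : ∑ k, blockCoeff B k * ϑ (k * g) =
      ∑ χ : IrrCharacter G, classInner ϑ χ * ∑ k, blockCoeff B k * (χ : G → ℂ) (k * g) := by
    simp only [h1, Finset.mul_sum]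
    rw [Finset.sum_comm]
    apply Finset.sum_congr rfl
    intro χ _
    apply Finset.sum_congr rfl
    intro k _
    ring
  rw [h2]
  have h3 : ∀ χ : IrrCharacter G, classInner ϑ χ * ∑ k, blockCoeff B k * (χ : G → ℂ) (k * g) =
      if χ ∈ B then classInner ϑ χ * (χ : G → ℂ) g else 0 := by
    intro χ
    rw [sum_mul_char χ.2 (blockCoeff_isClass B), W_blockCoeff]
    split_ifs <;> simp
  rw [Finset.sum_congr rfl (fun χ _ => h3 χ), ← Finset.sum_filter]
  unfold blockPart
  rw [finsum_mem_eq_finite_toFinset_sum _ (Set.toFinite B)]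
  apply Finset.sum_congr
  · ext χ; simp
  · intro χ _
    congr 2
    exact Subsingleton.elim _ _

/-- every block of the centraliser of a `p`-element induces a block -/
theorem exists_induced_centralizer {M : Ideal AlgInt} {p : ℕ} (hM : IsPModular p M) (x : G)
    (hx : ∃ k : ℕ, orderOf x = p ^ k)
    {b : Set (IrrCharacter (Subgroup.centralizer ({x} : Set G)))} (hb : IsPBlock M b) :
    ∃ B : Set (IrrCharacter G), IsInducedBlock M (Subgroup.centralizer ({x} : Set G)) b B := by
  classical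
  haveI : Fact p.Prime := ⟨hM.1⟩
  have hP : IsPGroup p (Subgroup.zpowers x) := by
    obtain ⟨k, hk⟩ := hx
    apply IsPGroup.of_card (n := k)
    rw [Nat.card_zpowers, hk]
  have hcent : Subgroup.centralizer ((Subgroup.zpowers x : Subgroup G) : Set G) =
      Subgroup.centralizer ({x} : Set G) := by
    rw [Subgroup.zpowers_eq_closure, Subgroup.centralizer_closure]
  have hPH : Subgroup.zpowers x ≤ Subgroup.centralizer ({x} : Set G) := by
    rw [Subgroup.zpowers_le, Subgroup.mem_centralizer_singleton_iff]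
  obtain ⟨B, hB, _⟩ := exists_isInducedBlock hM hP hPH hcent.le
    (hcent ▸ Subgroup.centralizer_le_normalizer _) hb
  exact ⟨B, hB⟩

end Cfsg.Agent.Lib.Helper2.BlockSM5
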