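import Mathlib
import Cfsg.Prelude.Def_Blocks
import Cfsg.Agent.Lib.Helper2.BlockSM5
import Cfsg.Agent.Lib.Helper1.Cores
import Cfsg.Agent.S0906
import Cfsg.Agent.S0912
import Cfsg.Agent.S0917

set_option autoImplicit false
set_option linter.unusedSectionVars false
set_option linter.unusedVariables false
set_option linter.style.haveILetI false

/-! Consequences of the second main theorem. -/

namespace Cfsg.Agent.Lib.Helper2.BlockSM6

open Cfsg Cfsg.Agent.Lib.Helper7.CharIrr Cfsg.Agent.Lib.Helper7.CharOrth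
  Cfsg.Agent.Lib.Helper7.CharIntegral Cfsg.Agent.Lib.Helper7.CharMore
  Cfsg.Agent.Lib.Helper7.CharClassAlg Cfsg.Agent.Lib.Helper7.CharComplete
  Cfsg.Agent.Lib.Helper2.LocRing
  Cfsg.Agent.Lib.Helper2.BlockZ Cfsg.Agent.Lib.Helper2.BlockFix Cfsg.Agent.Lib.Helper2.BlockOrth
  Cfsg.Agent.Lib.Helper2.BlockLam Cfsg.Agent.Lib.Helper2.BlockBr
  Cfsg.Agent.Lib.Helper2.BlockSub Cfsg.Agent.Lib.Helper2.BlockSM4 Cfsg.Agent.Lib.Helper2.BlockBr2
  Cfsg.Agent.Lib.Helper2.BlockSM5
open scoped ComplexConjugate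

variable {G : Type*} [Group G] [Fintype G]

theorem mem_defect_of_induced {M : Ideal AlgInt} {p : ℕ} [Fact p.Prime] (hM : IsPModular p M)
    (x : G) (hx : ∃ k : ℕ, orderOf x = p ^ k)
    {b : Set (IrrCharacter (Subgroup.centralizer ({x} : Set G)))} {B : Set (IrrCharacter G)}
    (hind : IsInducedBlock M (Subgroup.centralizer ({x} : Set G)) b B) :
    ∃ E : Subgroup G, IsDefectGroup p M B E ∧ x ∈ E := by
  classical
  obtain ⟨y, hy⟩ := Cfsg.Agent.S0906.result p M hM b hind.1
  obtain ⟨S⟩ : Nonempty (Sylow p (Subgroup.centralizer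
    ({y} : Set (Subgroup.centralizer ({x} : Set G))))) := inferInstance
  have hD : IsDefectGroup p M b ((S : Subgroup (Subgroup.centralizer
      ({y} : Set (Subgroup.centralizer ({x} : Set G))))).map
      (Subgroup.centralizer ({y} : Set (Subgroup.centralizer ({x} : Set G)))).subtype) :=
    ⟨y, hy, S, rfl⟩
  have h1 := Cfsg.Agent.S0912.result p M hM b hind.1 _ hD
  obtain ⟨E, hE, hDE⟩ := Cfsg.Agent.S0917.result p M hM _ b hind.1 B hind.2.1 hind _ hD
  refine ⟨E, hE, ?_⟩
  have hxH : x ∈ Subgroup.centralizer ({x} : Set G) := by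
    rw [Subgroup.mem_centralizer_singleton_iff]
  set x' : Subgroup.centralizer ({x} : Set G) := ⟨x, hxH⟩ with hx'
  have hn : (Subgroup.zpowers x').Normal := by
    constructor
    intro n hn g
    obtain ⟨i, rfl⟩ := Subgroup.mem_zpowers_iff.mp hn
    have h2 : g * x' = x' * g := Subtype.ext (Subgroup.mem_centralizer_singleton_iff.mp g.2)
    have h3 : g * x' ^ i * g⁻¹ = x' ^ i := by
      have : Commute g (x' ^ i) := (show Commute g x' from h2).zpow_right i
      rw [this.eq, mul_inv_cancel_right]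
    rw [h3]
    exact Subgroup.zpow_mem_zpowers x' i
  have hP : IsPGroup p (Subgroup.zpowers x') := by
    obtain ⟨k, hk⟩ := hx
    apply IsPGroup.of_card (n := k)
    rw [Nat.card_zpowers, ← hk, hx', Subgroup.orderOf_mk]
  have h2 := Cfsg.Agent.Lib.Helper1.le_pCore hn hP
  exact hDE ⟨x', h1 (h2 (Subgroup.mem_zpowers x')), rfl⟩

/-- expansion of a character value along the blocks of a subgroup -/
theorem char_eq_sum_blocks {M : Ideal AlgInt} [M.IsPrime] (H : Subgroup G) [Fintype H]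
    [Fintype (IrrCharacter H)] [DecidableEq (Set (IrrCharacter H))] (F : G → ℂ) (h : H) :
    F h = ∑ b ∈ Finset.univ.image (fun ξ : IrrCharacter H => blockOf M (ξ : H → ℂ)),
      ∑ k : H, blockCoeff b k * F ((k : G) * (h : G)) := by
  classical
  have h1 : F h = ∑ k : H, (dl k : ℂ) * F ((k : G) * (h : G)) := by
    rw [Finset.sum_eq_single (1 : H)]
    · unfold dl
      simp
    · intro k _ hk
      unfold dl
      rw [if_neg hk, zero_mul]
    · intro h; exact absurd (Finset.mem_univ _) h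
  rw [h1, dl_eq_sum_blocks (M := M), Finset.sum_comm]
  apply Finset.sum_congr rfl
  intro k _
  rw [Finset.sum_apply, Finset.sum_mul]

theorem char_eq_zero_of_not_mem_defect {M : Ideal AlgInt} {p : ℕ} [Fact p.Prime]
    (hM : IsPModular p M) (χ : IrrCharacter G) (g x : G) (hx : IsPPart p g x)
    (hD : ∀ D : Subgroup G, IsDefectGroup p M (blockOf M (χ : G → ℂ)) D → x ∉ D) :
    (χ : G → ℂ) g = 0 := by
  classical
  haveI := hM.2.1.isPrime
  haveI := Fintype.ofFinite (IrrCharacter (Subgroup.centralizer ({x} : Set G)))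
  have hx' := hx
  obtain ⟨y, hxy, hc, hxo, hyo⟩ := hx'
  have hgH : g ∈ Subgroup.centralizer ({x} : Set G) := by
    rw [Subgroup.mem_centralizer_singleton_iff, ← hxy]
    have : x * y = y * x := hc
    calc x * y * x = x * (y * x) := by group
      _ = x * (x * y) := by rw [this]
  have h1 := char_eq_sum_blocks (M := M) (Subgroup.centralizer ({x} : Set G)) (χ : G → ℂ) ⟨g, hgH⟩
  change (χ : G → ℂ) g = _ at h1
  rw [h1]
  apply Finset.sum_eq_zero
  intro b hb
  obtain ⟨ξ, _, rfl⟩ := Finset.mem_image.mp hb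
  obtain ⟨B', hB'⟩ := exists_induced_centralizer hM x hxo
    (b := blockOf M (ξ : Subgroup.centralizer ({x} : Set G) → ℂ)) ⟨ξ, rfl⟩
  apply second_main hM _ hB' ⟨g, hgH⟩ _ χ
  · intro hχ
    obtain ⟨E, hE, hxE⟩ := mem_defect_of_induced hM x hxo hB'
    apply hD E _ hxE
    rw [block_eq_of_mem (M := M) ⟨χ, rfl⟩ hB'.2.1 (sameBlock_refl (M := M) _) hχ]
    exact hE
  · intro z hz
    rw [isPPart_unique hM.1 hz hx]

end Cfsg.Agent.Lib.Helper2.BlockSM6
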