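import Mathlib
import Cfsg.Prelude.Def_Blocks
import Cfsg.Agent.Lib.Helper2.BlockSM6

set_option autoImplicit false
set_option linter.unusedSectionVars false
set_option linter.unusedVariables false
set_option linter.style.haveILetI false

/-! Block orthogonality. -/

namespace Cfsg.Agent.Lib.Helper2.BlockSM7

open Cfsg Cfsg.Agent.Lib.Helper7.CharIrr Cfsg.Agent.Lib.Helper7.CharOrth
  Cfsg.Agent.Lib.Helper7.CharIntegral Cfsg.Agent.Lib.Helper7.CharMore
  Cfsg.Agent.Lib.Helper7.CharClassAlg Cfsg.Agent.Lib.Helper7.CharComplete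
  Cfsg.Agent.Lib.Helper7.CharClassAlg2
  Cfsg.Agent.Lib.Helper2.LocRing
  Cfsg.Agent.Lib.Helper2.BlockZ Cfsg.Agent.Lib.Helper2.BlockFix Cfsg.Agent.Lib.Helper2.BlockOrth
  Cfsg.Agent.Lib.Helper2.BlockLam Cfsg.Agent.Lib.Helper2.BlockBr
  Cfsg.Agent.Lib.Helper2.BlockSub Cfsg.Agent.Lib.Helper2.BlockSM4 Cfsg.Agent.Lib.Helper2.BlockBr2
  Cfsg.Agent.Lib.Helper2.BlockSM5 Cfsg.Agent.Lib.Helper2.BlockSM6
open scoped ComplexConjugate

variable {G : Type*} [Group G] [Fintype G]

theorem sum_blockCoeff_mul [Fintype (IrrCharacter G)] (B : Set (IrrCharacter G))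
    [DecidablePred (· ∈ B)] {ϑ : G → ℂ} (hϑ : IsClassFunction G ϑ) (g : G) :
    ∑ k, blockCoeff B k * ϑ (k * g) =
      ∑ χ ∈ Finset.univ.filter (fun χ => χ ∈ B), classInner ϑ χ * (χ : G → ℂ) g := by
  have h1 : ∀ k, ϑ (k * g) = ∑ χ : IrrCharacter G, classInner ϑ χ * (χ : G → ℂ) (k * g) := by
    intro k
    conv_lhs => rw [classFunction_eq_sum hϑ]
    simp only [Finset.sum_apply, Pi.smul_apply, smul_eq_mul]
  have h2 : ∑ k, blockCoeff B k * ϑ (k * g) =
      ∑ χ : IrrCharacter G, classInner ϑ χ * ∑ k, blockCoeff B k * (χ : G → ℂ) (k * g) := by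
    simp only [h1, Finset.mul_sum]
    rw [Finset.sum_comm]
    apply Finset.sum_congr rfl
    intro χ _
    apply Finset.sum_congr rfl
    intro k _
    ring
  rw [h2]
  have h3 : ∀ χ : IrrCharacter G, classInner ϑ χ * ∑ k, blockCoeff B k * (χ : G → ℂ) (k * g) =
      if χ ∈ B then classInner ϑ χ * (χ : G → ℂ) g else 0 := by
    intro χ
    rw [sum_mul_char χ.2 (blockCoeff_isClass B), W_blockCoeff]
    split_ifs <;> simp
  rw [Finset.sum_congr rfl (fun χ _ => h3 χ), ← Finset.sum_filter]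

/-- the block part of a class function vanishing on `p`-regular elements vanishes there -/
theorem sum_blockCoeff_preg {M : Ideal AlgInt} {p : ℕ} (hM : IsPModular p M)
    {B : Set (IrrCharacter G)} (hB : IsPBlock M B) {η : G → ℂ} (hη : IsClassFunction G η)
    (hvan : ∀ c, ¬ p ∣ orderOf c → η c = 0) (y : G) (hy : ¬ p ∣ orderOf y) :
    ∑ k, blockCoeff B k * η (k * y) = 0 := by
  classical
  haveI := hM.2.1.isPrime
  haveI := Fintype.ofFinite (IrrCharacter G)
  rw [sum_blockCoeff_mul B hη]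
  unfold classInner
  simp only [Finset.mul_sum, Finset.sum_mul]
  rw [Finset.sum_comm]
  apply Finset.sum_eq_zero
  intro c _
  by_cases hc : p ∣ orderOf c
  · have h1 := weak_orth hM B (block_closed hB) y c hy hc
    have h2 : ∀ χ ∈ Finset.univ.filter (fun χ : IrrCharacter G => χ ∈ B),
        (Nat.card G : ℂ)⁻¹ * (η c * conj ((χ : G → ℂ) c)) * (χ : G → ℂ) y =
        (Nat.card G : ℂ)⁻¹ * η c * ((χ : G → ℂ) y * conj ((χ : G → ℂ) c)) := by
      intro χ _
      ring
    rw [Finset.sum_congr rfl h2, ← Finset.mul_sum, h1, mul_zero]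
  · apply Finset.sum_eq_zero
    intro χ _
    rw [hvan c hc]
    ring

theorem blockPart_section {M : Ideal AlgInt} {p : ℕ} [Fact p.Prime] (hM : IsPModular p M)
    {ϑ : G → ℂ} (hϑ : IsClassFunction G ϑ) (x : G)
    (hvan : ∀ u z : G, IsPPart p u z → IsConj x z → ϑ u = 0)
    {B : Set (IrrCharacter G)} (hB : IsPBlock M B) (u z : G) (hu : IsPPart p u z)
    (hxz : IsConj x z) : ∑ k, blockCoeff B k * ϑ (k * u) = 0 := by
  classical
  haveI := hM.2.1.isPrime
  haveI := Fintype.ofFinite (IrrCharacter G)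
  haveI := Fintype.ofFinite (IrrCharacter (Subgroup.centralizer ({z} : Set G)))
  have hu' := hu
  obtain ⟨y, hzy, hc, hzo, hyo⟩ := hu'
  have hcz : z * y = y * z := hc
  have huH : u ∈ Subgroup.centralizer ({z} : Set G) := by
    rw [Subgroup.mem_centralizer_singleton_iff, ← hzy]
    calc z * y * z = z * (y * z) := by group
      _ = z * (z * y) := by rw [hcz]
  have hyH : y ∈ Subgroup.centralizer ({z} : Set G) := by
    rw [Subgroup.mem_centralizer_singleton_iff]
    exact hcz.symm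
  set H := Subgroup.centralizer ({z} : Set G) with hH
  set 𝔅 := Finset.univ.image (fun ξ : IrrCharacter H => blockOf M (ξ : H → ℂ)) with h𝔅
  set T : Set (IrrCharacter H) → (G → ℂ) → ℂ :=
    fun b F => ∑ k : H, blockCoeff b k * F ((k : G) * u) with hT
  have hexp : ∀ F : G → ℂ, F u = ∑ b ∈ 𝔅, T b F := fun F =>
    char_eq_sum_blocks (M := M) H F ⟨u, huH⟩
  have hblock : ∀ b ∈ 𝔅, IsPBlock M b := by
    intro b hb
    obtain ⟨ξ, _, rfl⟩ := Finset.mem_image.mp hb
    exact ⟨ξ, rfl⟩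
  have hC : ∀ w : G, IsPPart p u w → Subgroup.centralizer ({w} : Set G) ≤ H := by
    intro w hw
    rw [isPPart_unique hM.1 hw hu]
  have hkey : ∀ χ : IrrCharacter G, (if χ ∈ B then (χ : G → ℂ) u else 0) =
      ∑ b ∈ 𝔅.filter (fun b => IsInducedBlock M H b B), T b (χ : G → ℂ) := by
    intro χ
    split_ifs with hχ
    · rw [hexp (χ : G → ℂ), Finset.sum_filter]
      apply Finset.sum_congr rfl
      intro b hb
      split_ifs with hbB
      · rfl
      · obtain ⟨B', hB'⟩ := exists_induced_centralizer hM z hzo (hblock b hb)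
        apply second_main hM H hB' ⟨u, huH⟩ hC χ
        intro hχ'
        apply hbB
        rw [block_eq_of_mem hB hB'.2.1 hχ hχ']
        exact hB'
    · symm
      apply Finset.sum_eq_zero
      intro b hb
      exact second_main hM H (Finset.mem_filter.mp hb).2 ⟨u, huH⟩ hC χ hχ
  rw [sum_blockCoeff_mul B hϑ, Finset.sum_filter]
  have h1 : ∀ χ : IrrCharacter G, (if χ ∈ B then classInner ϑ χ * (χ : G → ℂ) u else 0) =
      classInner ϑ χ * ∑ b ∈ 𝔅.filter (fun b => IsInducedBlock M H b B), T b (χ : G → ℂ) := by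
    intro χ
    rw [← hkey]
    split_ifs <;> simp
  rw [Finset.sum_congr rfl (fun χ _ => h1 χ)]
  simp only [Finset.mul_sum]
  rw [Finset.sum_comm]
  apply Finset.sum_eq_zero
  intro b hb
  have hbb := hblock b (Finset.mem_filter.mp hb).1
  have h2 : ∑ χ : IrrCharacter G, classInner ϑ χ * T b (χ : G → ℂ) = T b ϑ := by
    rw [hT]
    simp only [Finset.mul_sum]
    rw [Finset.sum_comm]
    apply Finset.sum_congr rfl
    intro k _
    conv_rhs => rw [classFunction_eq_sum hϑ]
    simp only [Finset.sum_apply, Pi.smul_apply, smul_eq_mul, Finset.mul_sum]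
    apply Finset.sum_congr rfl
    intro χ _
    ring
  rw [h2, hT]
  simp only
  set η : H → ℂ := fun c => ϑ (z * c) with hη
  have hcomm : ∀ k : H, (k : G) * z = z * k :=
    fun k => Subgroup.mem_centralizer_singleton_iff.mp k.2
  have hηc : IsClassFunction H η := by
    intro c k
    change ϑ (z * ((k : G) * c * (k : G)⁻¹)) = ϑ (z * c)
    have e1 : z * ((k : G) * c * (k : G)⁻¹) = (k : G) * (z * c) * (k : G)⁻¹ := by
      calc z * ((k : G) * c * (k : G)⁻¹) = (z * k) * c * (k : G)⁻¹ := by group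
        _ = ((k : G) * z) * c * (k : G)⁻¹ := by rw [hcomm k]
        _ = (k : G) * (z * c) * (k : G)⁻¹ := by group
    rw [e1, hϑ]
  have h3 := sum_blockCoeff_preg hM hbb hηc (by
    intro c hcr
    apply hvan (z * c) z _ hxz
    exact ⟨c, rfl, (hcomm c).symm, hzo, by rw [Subgroup.orderOf_coe]; exact hcr⟩) ⟨y, hyH⟩
    (by rw [Subgroup.orderOf_mk]; exact hyo)
  rw [← h3]
  apply Finset.sum_congr rfl
  intro k _
  congr 1
  change ϑ ((k : G) * u) = ϑ (z * ((k : G) * y))
  have e2 : z * ((k : G) * y) = (k : G) * u := by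
    rw [← hzy]
    calc z * ((k : G) * y) = (z * k) * y := by group
      _ = ((k : G) * z) * y := by rw [hcomm k]
      _ = (k : G) * (z * y) := by group
  rw [e2]

theorem block_orth {M : Ideal AlgInt} {p : ℕ} [Fact p.Prime] (hM : IsPModular p M)
    [Fintype (IrrCharacter G)]
    (g h x y : G) (hg : IsPPart p g x) (hh : IsPPart p h y) (hxy : ¬ IsConj x y)
    {B : Set (IrrCharacter G)} [DecidablePred (· ∈ B)] (hB : IsPBlock M B) :
    ∑ χ ∈ Finset.univ.filter (fun χ => χ ∈ B), (χ : G → ℂ) g * (χ : G → ℂ) h⁻¹ = 0 := by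
  classical
  haveI := hM.2.1.isPrime
  set ϑ : G → ℂ := ∑ χ : IrrCharacter G, ((χ : G → ℂ) h⁻¹) • (χ : G → ℂ) with hϑ
  have hϑc : IsClassFunction G ϑ :=
    isClassFunction_sum _ _ fun χ _ => isClassFunction_smul _ (IsIrrCharacter.isClassFunction χ.2)
  have hϑv : ∀ t, ϑ t = if IsConj t h then (Nat.card (Subgroup.centralizer {t}) : ℂ) else 0 := by
    intro t
    rw [← col_orth t h, hϑ]
    simp only [Finset.sum_apply, Pi.smul_apply, smul_eq_mul]
    apply Finset.sum_congr rfl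
    intro χ _
    rw [irr_inv (IsIrrCharacter.isCharacter χ.2), mul_comm]
  have h1 := blockPart_section hM hϑc x (by
    intro u z hu hxz
    rw [hϑv, if_neg]
    intro huh
    obtain ⟨c, rfl⟩ := isConj_iff.mp huh
    have h2 := isPPart_unique hM.1 hh (isPPart_conj hu c)
    apply hxy
    rw [h2]
    exact hxz.trans (isConj_iff.mpr ⟨c, rfl⟩)) hB g x hg (IsConj.refl x)
  rw [← h1, hϑ]
  simp only [Finset.sum_apply, Pi.smul_apply, smul_eq_mul, Finset.mul_sum]
  rw [Finset.sum_comm, Finset.sum_filter]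
  apply Finset.sum_congr rfl
  intro χ _
  have h3 : ∑ k, blockCoeff B k * ((χ : G → ℂ) h⁻¹ * (χ : G → ℂ) (k * g)) =
      (χ : G → ℂ) h⁻¹ * ∑ k, blockCoeff B k * (χ : G → ℂ) (k * g) := by
    rw [Finset.mul_sum]
    apply Finset.sum_congr rfl
    intro k _
    ring
  rw [h3, sum_mul_char χ.2 (blockCoeff_isClass B), W_blockCoeff]
  split_ifs
  · ring
  · ring

end Cfsg.Agent.Lib.Helper2.BlockSM7
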