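import Mathlib
import Cfsg.Prelude.Def_SolvableStructure

set_option autoImplicit false

namespace Cfsg.Agent.Lib.Helper2.Supersolvable

variable {G : Type*} [Group G]

/-- Subgroups reachable from `⊥` through normal subgroups by adjoining one element at a time. -/
inductive Reach : Subgroup G → Prop
  | bot : Reach ⊥
  | step (H : Subgroup G) (g : G) : Reach H → (H ⊔ Subgroup.zpowers g).Normal →
      Reach (H ⊔ Subgroup.zpowers g)

theorem Reach.normal {K : Subgroup G} (h : Reach K) : K.Normal := by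
  cases h with
  | bot => infer_instance
  | step H g _ hn => exact hn

theorem reach_of_chain {n : ℕ} (H : Fin (n + 1) → Subgroup G) (h0 : H 0 = ⊥)
    (hn : ∀ i, (H i).Normal)
    (hs : ∀ i : Fin n, ∃ g : G, H i.succ = H i.castSucc ⊔ Subgroup.zpowers g) (i : Fin (n + 1)) :
    Reach (H i) := by
  induction i using Fin.induction with
  | zero => rw [h0]; exact Reach.bot
  | succ i ih =>
    obtain ⟨g, hg⟩ := hs i
    rw [hg]
    exact Reach.step _ g ih (hg ▸ hn _)

theorem chain_of_reach {K : Subgroup G} (h : Reach K) :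
    ∃ (n : ℕ) (H : Fin (n + 1) → Subgroup G),
    H 0 = ⊥ ∧ H (Fin.last n) = K ∧ (∀ i, (H i).Normal) ∧
      ∀ i : Fin n, ∃ g : G, H i.succ = H i.castSucc ⊔ Subgroup.zpowers g := by
  induction h with
  | bot => exact ⟨0, fun _ => ⊥, rfl, rfl, fun _ => inferInstance, fun i => i.elim0⟩
  | step K g _ hn ih =>
    obtain ⟨n, H, h0, hl, hnorm, hs⟩ := ih
    refine ⟨n + 1, Fin.snoc H (K ⊔ Subgroup.zpowers g), ?_, ?_, ?_, ?_⟩
    · have : (0 : Fin (n + 1 + 1)) = Fin.castSucc 0 := rfl
      rw [this, Fin.snoc_castSucc, h0]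
    · rw [Fin.snoc_last]
    · intro i
      induction i using Fin.lastCases with
      | last => rw [Fin.snoc_last]; exact hn
      | cast j => rw [Fin.snoc_castSucc]; exact hnorm j
    · intro i
      induction i using Fin.lastCases with
      | last =>
        refine ⟨g, ?_⟩
        rw [Fin.succ_last, Fin.snoc_last, Fin.snoc_castSucc, hl]
      | cast j =>
        obtain ⟨g', hg'⟩ := hs j
        refine ⟨g', ?_⟩
        rw [Fin.succ_castSucc, Fin.snoc_castSucc, Fin.snoc_castSucc, hg']

theorem isSupersolvable_iff : Cfsg.IsSupersolvable G ↔ Reach (⊤ : Subgroup G) := by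
  constructor
  · rintro ⟨n, H, h0, hl, hn, hs⟩
    rw [← hl]
    exact reach_of_chain H h0 hn hs _
  · intro h
    exact chain_of_reach h

theorem Reach.map {G' : Type*} [Group G'] {f : G →* G'} (hf : Function.Surjective f)
    {K : Subgroup G} (h : Reach K) : Reach (K.map f) := by
  induction h with
  | bot => rw [Subgroup.map_bot]; exact Reach.bot
  | step K g _ hn ih =>
    have e : (K ⊔ Subgroup.zpowers g).map f = K.map f ⊔ Subgroup.zpowers (f g) := by
      rw [Subgroup.map_sup, MonoidHom.map_zpowers]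
    rw [e]
    exact Reach.step _ _ ih (e ▸ hn.map f hf)

theorem isSupersolvable_of_surjective {G' : Type*} [Group G'] {f : G →* G'}
    (hf : Function.Surjective f) (h : Cfsg.IsSupersolvable G) : Cfsg.IsSupersolvable G' := by
  rw [isSupersolvable_iff] at h ⊢
  have := h.map hf
  rwa [← MonoidHom.range_eq_map, MonoidHom.range_eq_top.mpr hf] at this

/-- A subgroup whose image lies in a cyclic group is generated modulo the kernel by one element. -/
theorem exists_le_ker_sup_zpowers {H Q : Type*} [Group H] [Group Q] (φ : H →* Q) (L : Subgroup H)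
    (c : Q) (hL : L.map φ ≤ Subgroup.zpowers c) :
    ∃ h ∈ L, L ≤ (φ.ker ⊓ L) ⊔ Subgroup.zpowers h := by
  let ζ : Multiplicative ℤ →* Q := zpowersHom Q c
  let J : Subgroup (Multiplicative ℤ) := (L.map φ).comap ζ
  obtain ⟨⟨d, hd⟩, hgen⟩ := IsCyclic.exists_generator (α := J)
  obtain ⟨h, hhL, hh⟩ : ζ d ∈ L.map φ := hd
  refine ⟨h, hhL, ?_⟩
  intro x hx
  obtain ⟨i, hi⟩ := Subgroup.mem_zpowers_iff.mp (hL (Subgroup.mem_map_of_mem φ hx))
  have hiJ : Multiplicative.ofAdd i ∈ J := by
    change ζ (Multiplicative.ofAdd i) ∈ L.map φ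
    have : ζ (Multiplicative.ofAdd i) = c ^ i := by simp [ζ]
    rw [this, hi]
    exact Subgroup.mem_map_of_mem φ hx
  obtain ⟨m, hm⟩ := Subgroup.mem_zpowers_iff.mp (hgen ⟨_, hiJ⟩)
  have hm' : d ^ m = Multiplicative.ofAdd i := congrArg Subtype.val hm
  have h1 : φ x = φ (h ^ m) := by
    rw [map_zpow, hh, ← map_zpow, hm', ← hi]
    simp [ζ]
  have h2 : x * (h ^ m)⁻¹ ∈ φ.ker ⊓ L := by
    refine Subgroup.mem_inf.mpr ⟨?_, mul_mem hx (inv_mem (zpow_mem hhL m))⟩
    rw [MonoidHom.mem_ker, map_mul, map_inv, h1, mul_inv_cancel]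
  have h3 : x = x * (h ^ m)⁻¹ * h ^ m := by group
  rw [h3]
  exact mul_mem (Subgroup.mem_sup_left h2)
    (Subgroup.mem_sup_right (Subgroup.zpow_mem_zpowers h m))

theorem Reach.subgroupOf (H : Subgroup G) {K : Subgroup G} (h : Reach K) :
    Reach (K.subgroupOf H) := by
  induction h with
  | bot => rw [Subgroup.bot_subgroupOf]; exact Reach.bot
  | step K g hK hn ih =>
    have hKn : K.Normal := hK.normal
    let φ : H →* G ⧸ K := (QuotientGroup.mk' K).comp H.subtype
    have hker : φ.ker = K.subgroupOf H := by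
      ext x
      simp [φ, MonoidHom.mem_ker, Subgroup.mem_subgroupOf]
    have hmap : ((K ⊔ Subgroup.zpowers g).subgroupOf H).map φ
        ≤ Subgroup.zpowers (QuotientGroup.mk' K g) := by
      rintro _ ⟨x, hx, rfl⟩
      have h1 : (x : G) ∈ K ⊔ Subgroup.zpowers g := hx
      have h2 : QuotientGroup.mk' K (x : G) ∈ (K ⊔ Subgroup.zpowers g).map (QuotientGroup.mk' K) :=
        Subgroup.mem_map_of_mem _ h1
      rw [Subgroup.map_sup, MonoidHom.map_zpowers] at h2
      have h3 : K.map (QuotientGroup.mk' K) = ⊥ := by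
        rw [← le_bot_iff, Subgroup.map_le_iff_le_comap]
        intro y hy
        rw [Subgroup.mem_comap, Subgroup.mem_bot]
        exact (QuotientGroup.eq_one_iff y).mpr hy
      rw [h3, bot_sup_eq] at h2
      exact h2
    obtain ⟨h, hh, hle⟩ := exists_le_ker_sup_zpowers φ _ _ hmap
    have e : (K ⊔ Subgroup.zpowers g).subgroupOf H = K.subgroupOf H ⊔ Subgroup.zpowers h := by
      apply le_antisymm
      · refine hle.trans (sup_le_sup ?_ le_rfl)
        rw [hker]; exact inf_le_left
      · refine sup_le ?_ ?_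
        · exact Subgroup.subgroupOf_mono H le_sup_left
        · rw [Subgroup.zpowers_le]; exact hh
    rw [e]
    refine Reach.step _ _ ih ?_
    rw [← e]
    exact hn.subgroupOf H

theorem isSupersolvable_subgroup (h : Cfsg.IsSupersolvable G) (H : Subgroup G) :
    Cfsg.IsSupersolvable H := by
  rw [isSupersolvable_iff] at h ⊢
  have := h.subgroupOf H
  rwa [Subgroup.top_subgroupOf] at this

theorem Reach.comap {Q : Type*} [Group Q] {f : G →* Q} (hf : Function.Surjective f)
    (hker : Reach f.ker) {K : Subgroup Q} (h : Reach K) : Reach (K.comap f) := by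
  induction h with
  | bot => exact hker
  | step K c _ hn ih =>
    obtain ⟨g, rfl⟩ := hf c
    have e : (K ⊔ Subgroup.zpowers (f g)).comap f = K.comap f ⊔ Subgroup.zpowers g := by
      have h1 : (K.comap f ⊔ Subgroup.zpowers g).map f = K ⊔ Subgroup.zpowers (f g) := by
        rw [Subgroup.map_sup, MonoidHom.map_zpowers, Subgroup.map_comap_eq_self_of_surjective hf]
      rw [← h1, Subgroup.comap_map_eq, sup_eq_left]
      exact (Subgroup.ker_le_comap f K).trans le_sup_left
    rw [e]
    exact Reach.step _ _ ih (e ▸ hn.comap f)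

theorem isSupersolvable_of_reach_ker {Q : Type*} [Group Q] {f : G →* Q}
    (hf : Function.Surjective f) (hker : Reach f.ker) (h : Cfsg.IsSupersolvable Q) :
    Cfsg.IsSupersolvable G := by
  rw [isSupersolvable_iff] at h ⊢
  have := Reach.comap hf hker h
  rwa [Subgroup.comap_top] at this

theorem reach_zpowers (g : G) (h : (Subgroup.zpowers g).Normal) : Reach (Subgroup.zpowers g) := by
  have := Reach.step ⊥ g Reach.bot (by rwa [bot_sup_eq])
  rwa [bot_sup_eq] at this

theorem isSupersolvable_of_quotient_zpowers (g : G) [hn : (Subgroup.zpowers g).Normal]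
    (h : Cfsg.IsSupersolvable (G ⧸ Subgroup.zpowers g)) : Cfsg.IsSupersolvable G := by
  refine isSupersolvable_of_reach_ker (QuotientGroup.mk'_surjective (Subgroup.zpowers g)) ?_ h
  rw [QuotientGroup.ker_mk']
  exact reach_zpowers g hn

theorem reach_of_isCyclic (N : Subgroup G) [hn : N.Normal] [IsCyclic N] : Reach N := by
  obtain ⟨⟨g, hg⟩, hgen⟩ := IsCyclic.exists_generator (α := N)
  have e : N = Subgroup.zpowers g := by
    apply le_antisymm
    · intro x hx
      obtain ⟨k, hk⟩ := Subgroup.mem_zpowers_iff.mp (hgen ⟨x, hx⟩)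
      exact Subgroup.mem_zpowers_iff.mpr ⟨k, congrArg Subtype.val hk⟩
    · rw [Subgroup.zpowers_le]; exact hg
  rw [e]
  exact reach_zpowers g (e ▸ hn)

theorem isSupersolvable_of_quotient_cyclic (N : Subgroup G) [hn : N.Normal] [IsCyclic N]
    (h : Cfsg.IsSupersolvable (G ⧸ N)) : Cfsg.IsSupersolvable G := by
  refine isSupersolvable_of_reach_ker (QuotientGroup.mk'_surjective N) ?_ h
  rw [QuotientGroup.ker_mk']
  exact reach_of_isCyclic N

theorem isSupersolvable_of_subsingleton [Subsingleton G] : Cfsg.IsSupersolvable G := by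
  rw [isSupersolvable_iff, Subsingleton.elim (⊤ : Subgroup G) ⊥]
  exact Reach.bot

theorem isSupersolvable_prod {H : Type*} [Group H] (hG : Cfsg.IsSupersolvable G)
    (hH : Cfsg.IsSupersolvable H) : Cfsg.IsSupersolvable (G × H) := by
  refine isSupersolvable_of_reach_ker (f := MonoidHom.snd G H) Prod.snd_surjective ?_ hH
  rw [isSupersolvable_iff] at hG
  have hinl : ∀ K : Subgroup G, K.map (MonoidHom.inl G H) = K.prod ⊥ := by
    intro K
    ext ⟨a, b⟩
    simp only [Subgroup.mem_map, MonoidHom.inl_apply, Prod.mk.injEq, Subgroup.mem_prod,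
      Subgroup.mem_bot]
    constructor
    · rintro ⟨x, hx, rfl, rfl⟩; exact ⟨hx, rfl⟩
    · rintro ⟨hx, rfl⟩; exact ⟨a, hx, rfl, rfl⟩
  have key : ∀ K : Subgroup G, Reach K → Reach (K.map (MonoidHom.inl G H)) := by
    intro K hK
    induction hK with
    | bot => rw [Subgroup.map_bot]; exact Reach.bot
    | step K g _ hn ih =>
      have e : (K ⊔ Subgroup.zpowers g).map (MonoidHom.inl G H)
          = K.map (MonoidHom.inl G H) ⊔ Subgroup.zpowers (MonoidHom.inl G H g) := by
        rw [Subgroup.map_sup, MonoidHom.map_zpowers]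
      rw [e]
      refine Reach.step _ _ ih ?_
      rw [← e, hinl]
      infer_instance
  have := key ⊤ hG
  rw [hinl] at this
  convert this using 1
  ext ⟨a, b⟩
  simp [Subgroup.mem_prod]

end Cfsg.Agent.Lib.Helper2.Supersolvable
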