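import Mathlib
import Cfsg.Agent.Lib.Helper2.Supersolvable
import Cfsg.Agent.Lib.Helper2.Basic
import Cfsg.Agent.Lib.Helper1.Basic

set_option autoImplicit false

namespace Cfsg.Agent.Lib.Helper2.Supersolvable

open Cfsg.Agent.Lib.Helper2.Basic
open scoped commutatorElement

variable {G : Type*} [Group G]

theorem Reach.exists_normal_zpowers {K : Subgroup G} (h : Reach K) (hK : K ≠ ⊥) :
    ∃ g : G, g ≠ 1 ∧ (Subgroup.zpowers g).Normal ∧ Subgroup.zpowers g ≤ K := by
  induction h with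
  | bot => exact absurd rfl hK
  | step H g _ hn ih =>
    by_cases hH : H = ⊥
    · subst hH
      rw [bot_sup_eq] at hn hK ⊢
      refine ⟨g, ?_, hn, le_rfl⟩
      rintro rfl
      exact hK (Subgroup.zpowers_one_eq_bot)
    · obtain ⟨g', h1, h2, h3⟩ := ih hH
      exact ⟨g', h1, h2, h3.trans le_sup_left⟩

theorem zpowers_pow_normal (g : G) (hn : (Subgroup.zpowers g).Normal) (m : ℕ) :
    (Subgroup.zpowers (g ^ m)).Normal := by
  constructor
  intro y hy x
  obtain ⟨k, rfl⟩ := Subgroup.mem_zpowers_iff.mp hy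
  obtain ⟨a, ha⟩ := Subgroup.mem_zpowers_iff.mp (hn.conj_mem g (Subgroup.mem_zpowers g) x)
  rw [Subgroup.mem_zpowers_iff]
  refine ⟨a * k, ?_⟩
  have h1 : x * (g ^ m) ^ k * x⁻¹ = ((x * g * x⁻¹) ^ m) ^ k := by
    rw [conj_pow, conj_zpow]
  rw [h1, ← ha, ← zpow_natCast, ← zpow_natCast, ← zpow_mul, ← zpow_mul, ← zpow_mul]
  congr 1
  ring

theorem exists_normal_prime_card [Finite G] [Nontrivial G] (h : Cfsg.IsSupersolvable G) :
    ∃ g : G, (Subgroup.zpowers g).Normal ∧ (Nat.card (Subgroup.zpowers g)).Prime := by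
  rw [isSupersolvable_iff] at h
  obtain ⟨g, hg1, hgn, -⟩ := h.exists_normal_zpowers top_ne_bot
  have ho : orderOf g ≠ 1 := fun h => hg1 (orderOf_eq_one_iff.mp h)
  have hp := Nat.minFac_prime ho
  refine ⟨g ^ (orderOf g / (orderOf g).minFac), zpowers_pow_normal g hgn _, ?_⟩
  rw [Nat.card_zpowers, orderOf_pow_orderOf_div (orderOf_pos g).ne' (Nat.minFac_dvd _)]
  exact hp

theorem isCoatom_map_of_le {N M : Subgroup G} [N.Normal] (hM : IsCoatom M) (hNM : N ≤ M) :
    IsCoatom (M.map (QuotientGroup.mk' N)) := by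
  have hcm : (M.map (QuotientGroup.mk' N)).comap (QuotientGroup.mk' N) = M := by
    rw [Subgroup.comap_map_eq, QuotientGroup.ker_mk', sup_eq_left.mpr hNM]
  constructor
  · intro h
    rw [h, Subgroup.comap_top] at hcm
    exact hM.1 hcm.symm
  · intro K hK
    have h1 : M ≤ K.comap (QuotientGroup.mk' N) := by
      rw [← hcm]; exact Subgroup.comap_mono hK.le
    have h2 : M ≠ K.comap (QuotientGroup.mk' N) := by
      intro h
      apply hK.ne
      rw [h, Subgroup.map_comap_eq_self_of_surjective (QuotientGroup.mk'_surjective N)]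
    have h3 := hM.2 _ (lt_of_le_of_ne h1 h2)
    have h4 := congrArg (Subgroup.map (QuotientGroup.mk' N)) h3
    rwa [Subgroup.map_comap_eq_self_of_surjective (QuotientGroup.mk'_surjective N),
      ← MonoidHom.range_eq_map, MonoidHom.range_eq_top.mpr (QuotientGroup.mk'_surjective N)] at h4

theorem card_quotient_lt [Finite G] (N : Subgroup G) (hN : 1 < Nat.card N) :
    Nat.card (G ⧸ N) < Nat.card G := by
  rw [← Subgroup.index_eq_card, ← Subgroup.index_mul_card N]
  have h2 : 0 < N.index := Nat.pos_of_ne_zero (Subgroup.index_ne_zero_of_finite)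
  nlinarith

universe u

theorem index_prime_aux : ∀ (n : ℕ) (G : Type u) [Group G] [Finite G], Nat.card G = n →
    Cfsg.IsSupersolvable G → ∀ M : Subgroup G, IsCoatom M → M.index.Prime := by
  intro n
  induction n using Nat.strong_induction_on with
  | _ n ih =>
  intro G _ _ hn hG M hM
  have : Nontrivial G := by
    by_contra h
    rw [not_nontrivial_iff_subsingleton] at h
    exact hM.1 (Subsingleton.elim _ _)
  obtain ⟨g, hgn, hgp⟩ := exists_normal_prime_card hG
  set N := Subgroup.zpowers g with hN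
  by_cases hNM : N ≤ M
  · have h1 := ih _ (hn ▸ card_quotient_lt N hgp.one_lt) (G ⧸ N) rfl
      (isSupersolvable_of_surjective (QuotientGroup.mk'_surjective N) hG) _
      (isCoatom_map_of_le hM hNM)
    rwa [Subgroup.index_map_eq _ (QuotientGroup.mk'_surjective N)
      (by rw [QuotientGroup.ker_mk']; exact hNM)] at h1
  · have h1 : N ⊔ M = ⊤ := by
      refine hM.2 _ (lt_of_le_of_ne le_sup_right ?_)
      intro h
      exact hNM (h ▸ le_sup_left)
    rw [← relIndex_eq_index_of_sup_eq_top N M h1]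
    have h2 : M.relIndex N ∣ Nat.card N := Subgroup.relIndex_dvd_card M N
    rcases (Nat.dvd_prime hgp).mp h2 with h3 | h3
    · exact absurd (Subgroup.relIndex_eq_one.mp h3) hNM
    · rw [h3]; exact hgp

theorem index_prime [Finite G] (hG : Cfsg.IsSupersolvable G) (M : Subgroup G) (hM : IsCoatom M) :
    M.index.Prime :=
  index_prime_aux _ G rfl hG M hM

/-- In a group with a normal cyclic subgroup `⟨c⟩`, all commutators centralize `c`. -/
theorem commutator_commute_of_zpowers_normal {Q : Type*} [Group Q] (c : Q)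
    (hn : (Subgroup.zpowers c).Normal) (x y : Q) : ⁅x, y⁆ * c = c * ⁅x, y⁆ := by
  have hex : ∀ z : Q, ∃ a : ℤ, z * c * z⁻¹ = c ^ a := by
    intro z
    obtain ⟨a, ha⟩ := Subgroup.mem_zpowers_iff.mp (hn.conj_mem c (Subgroup.mem_zpowers c) z)
    exact ⟨a, ha.symm⟩
  obtain ⟨a, ha⟩ := hex x
  obtain ⟨b, hb⟩ := hex y
  obtain ⟨a', ha'⟩ := hex x⁻¹
  obtain ⟨b', hb'⟩ := hex y⁻¹
  have hz : ∀ (z : Q) (e k : ℤ), z * c * z⁻¹ = c ^ e → z * c ^ k * z⁻¹ = c ^ (e * k) := by
    intro z e k h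
    rw [← conj_zpow, h, zpow_mul]
  have h1 : c ^ (a * a') = c := by
    rw [← hz x a a' ha, ← ha']; group
  have h2 : c ^ (b * b') = c := by
    rw [← hz y b b' hb, ← hb']; group
  have h3 : ⁅x, y⁆ * c * ⁅x, y⁆⁻¹ = c := by
    have e1 : ⁅x, y⁆ * c * ⁅x, y⁆⁻¹ = x * (y * (x⁻¹ * (y⁻¹ * c * y⁻¹⁻¹) * x⁻¹⁻¹) * y⁻¹) * x⁻¹ := by
      rw [commutatorElement_def]; group
    rw [e1, hb', hz x⁻¹ a' b' ha', hz y b _ hb, hz x a _ ha]
    have e2 : a * (b * (a' * b')) = (a * a') * (b * b') := by ring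
    rw [e2, zpow_mul, h1, h2]
  calc ⁅x, y⁆ * c = (⁅x, y⁆ * c * ⁅x, y⁆⁻¹) * ⁅x, y⁆ := by group
    _ = c * ⁅x, y⁆ := by rw [h3]

theorem commutator_step_le (K : Subgroup G) (g : G) (hK : K.Normal)
    (hn : (K ⊔ Subgroup.zpowers g).Normal) : ⁅K ⊔ Subgroup.zpowers g, commutator G⁆ ≤ K := by
  have hmapK : K.map (QuotientGroup.mk' K) = ⊥ := by
    rw [← le_bot_iff, Subgroup.map_le_iff_le_comap]
    intro y hy
    rw [Subgroup.mem_comap, Subgroup.mem_bot]
    exact (QuotientGroup.eq_one_iff y).mpr hy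
  have e : (K ⊔ Subgroup.zpowers g).map (QuotientGroup.mk' K)
      = Subgroup.zpowers (QuotientGroup.mk' K g) := by
    rw [Subgroup.map_sup, MonoidHom.map_zpowers, hmapK, bot_sup_eq]
  have hn' : (Subgroup.zpowers (QuotientGroup.mk' K g)).Normal :=
    e ▸ hn.map _ (QuotientGroup.mk'_surjective K)
  have h1 : (⁅K ⊔ Subgroup.zpowers g, commutator G⁆).map (QuotientGroup.mk' K) = ⊥ := by
    rw [Subgroup.map_commutator, e, Subgroup.commutator_comm,
      Subgroup.commutator_eq_bot_iff_le_centralizer, commutator_def, Subgroup.map_commutator]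
    rw [Subgroup.commutator_le]
    intro x _ y _
    rw [Subgroup.mem_centralizer_iff]
    intro z hz
    obtain ⟨k, rfl⟩ := Subgroup.mem_zpowers_iff.mp hz
    have := commutator_commute_of_zpowers_normal _ hn' x y
    exact ((Commute.zpow_right (show Commute ⁅x, y⁆ (QuotientGroup.mk' K g) from this) k)).symm
  intro x hx
  have h2 : QuotientGroup.mk' K x ∈ (⁅K ⊔ Subgroup.zpowers g, commutator G⁆).map (QuotientGroup.mk' K) :=
    Subgroup.mem_map_of_mem _ hx
  rw [h1, Subgroup.mem_bot] at h2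
  exact (QuotientGroup.eq_one_iff x).mp h2

theorem Reach.exists_iterate_eq_bot {K : Subgroup G} (h : Reach K) :
    ∃ k : ℕ, (fun X : Subgroup G => ⁅X, commutator G⁆)^[k] K = ⊥ := by
  induction h with
  | bot => exact ⟨0, rfl⟩
  | step K g hK hn ih =>
    obtain ⟨k, hk⟩ := ih
    refine ⟨k + 1, ?_⟩
    rw [Function.iterate_succ_apply, ← le_bot_iff, ← hk]
    have hmono : Monotone (fun X : Subgroup G => ⁅X, commutator G⁆) :=
      fun A B hAB => Subgroup.commutator_mono hAB le_rfl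
    exact hmono.iterate k (commutator_step_le K g hK.normal hn)

theorem commutator_isNilpotent (hG : Cfsg.IsSupersolvable G) :
    Group.IsNilpotent (commutator G) := by
  rw [isSupersolvable_iff] at hG
  obtain ⟨k, hk⟩ := hG.exists_iterate_eq_bot
  rw [Subgroup.isNilpotent_iff_lowerCentralSeries]
  refine ⟨k, ?_⟩
  rw [← le_bot_iff, ← hk]
  clear hk
  induction k with
  | zero => exact le_top
  | succ k ih =>
    rw [Subgroup.lowerCentralSeries_succ, Function.iterate_succ_apply']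
    exact Subgroup.commutator_mono ih le_rfl

end Cfsg.Agent.Lib.Helper2.Supersolvable
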