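import Mathlib
import Cfsg.Agent.Lib.Helper2.Conj
import Cfsg.Agent.Lib.Helper2.Basic
import Cfsg.Agent.Lib.Helper2.Supersolvable2
import Cfsg.Agent.Lib.Helper1.CoprimeSylow
import Cfsg.Agent.Lib.Helper1.Coprime
import Cfsg.Agent.Lib.Helper1.Cores

set_option autoImplicit false

namespace Cfsg.Agent.Lib.Helper2.Herstein

open scoped Pointwise
open Cfsg.Agent.Lib.Helper2.Conj Cfsg.Agent.Lib.Helper2.Basic

variable {G : Type*} [Group G]

theorem coprime_of_TI [Finite G] (M : Subgroup G)
    (hTI : ∀ g : G, g ∉ M → ∀ m ∈ M, g⁻¹ * m * g ∈ M → m = 1) :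
    (Nat.card M).Coprime M.index := by
  apply Nat.coprime_of_dvd
  intro p hp hpM hpi
  have : Fact p.Prime := ⟨hp⟩
  obtain ⟨x, hx⟩ := exists_prime_orderOf_dvd_card' p hpM
  have hx1 : (x : G) ≠ 1 := by
    intro h
    have : x = 1 := Subtype.ext h
    rw [this, orderOf_one] at hx
    exact hp.one_lt.ne hx
  have hZ : IsPGroup p (Subgroup.zpowers (x : G)) := by
    apply IsPGroup.of_card (n := 1)
    rw [Nat.card_zpowers, Subgroup.orderOf_coe, hx, pow_one]
  have h1 := hZ.card_modEq_card_fixedPoints (G ⧸ M)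
  have hfix : ∀ a : G ⧸ M, a ∈ MulAction.fixedPoints (Subgroup.zpowers (x : G)) (G ⧸ M) →
      a = ((1 : G) : G ⧸ M) := by
    intro a ha
    obtain ⟨g, rfl⟩ := QuotientGroup.mk_surjective a
    have h2 := ha ⟨(x : G), Subgroup.mem_zpowers _⟩
    change ((x : G) • (g : G ⧸ M)) = _ at h2
    rw [MulAction.Quotient.smul_coe, smul_eq_mul, eq_comm, QuotientGroup.eq, ← mul_assoc] at h2
    by_contra hne
    have hg : g ∉ M := by
      intro hg
      apply hne
      rw [eq_comm, QuotientGroup.eq]
      simpa using hg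
    exact hx1 (hTI g hg x x.2 h2)
  have h2 : Nat.card (MulAction.fixedPoints (Subgroup.zpowers (x : G)) (G ⧸ M)) = 1 := by
    rw [Nat.card_eq_one_iff_unique]
    constructor
    · constructor
      rintro ⟨a, ha⟩ ⟨b, hb⟩
      exact Subtype.ext ((hfix a ha).trans (hfix b hb).symm)
    · refine ⟨⟨((1 : G) : G ⧸ M), ?_⟩⟩
      rintro ⟨z, hz⟩
      change (z • ((1 : G) : G ⧸ M)) = _
      rw [MulAction.Quotient.smul_coe, smul_eq_mul, eq_comm, QuotientGroup.eq]
      have : z ∈ M := by
        obtain ⟨k, rfl⟩ := Subgroup.mem_zpowers_iff.mp hz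
        exact M.zpow_mem x.2 k
      simpa using this
  rw [h2] at h1
  have h3 : Nat.card (G ⧸ M) = M.index := rfl
  rw [h3] at h1
  have h4 : M.index % p = 0 := Nat.mod_eq_zero_of_dvd hpi
  unfold Nat.ModEq at h1
  rw [h4, Nat.mod_eq_of_lt hp.one_lt] at h1
  exact zero_ne_one h1

open scoped IsMulCommutative in
theorem exists_normal_complement [Finite G] (M : Subgroup G) [IsMulCommutative M]
    (hTI : ∀ g : G, g ∉ M → ∀ m ∈ M, g⁻¹ * m * g ∈ M → m = 1) :
    ∃ K : Subgroup G, K.Normal ∧ K ⊓ M = ⊥ ∧ Nat.card K = M.index := by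
  have hcop := coprime_of_TI M hTI
  let V : G →* M := MonoidHom.transfer (MonoidHom.id M)
  have hV : ∀ m : M, V m = m ^ M.index := by
    intro m
    have key : ∀ (k : ℕ) (g₀ : G), g₀⁻¹ * (m : G) ^ k * g₀ ∈ M →
        g₀⁻¹ * (m : G) ^ k * g₀ = (m : G) ^ k := by
      intro k g₀ h
      by_cases hg : g₀ ∈ M
      · have h1 : (⟨g₀, hg⟩ : M) * m ^ k = m ^ k * ⟨g₀, hg⟩ := mul_comm' _ _
        have h2 : g₀ * (m : G) ^ k = (m : G) ^ k * g₀ := congrArg Subtype.val h1
        rw [mul_assoc, ← h2, inv_mul_cancel_left]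
      · have h1 := hTI g₀ hg _ (M.pow_mem m.2 k) h
        rw [h1]; group
    have := MonoidHom.transfer_eq_pow (MonoidHom.id M) (m : G) key
    apply Subtype.ext
    rw [show V m = _ from this]
    rfl
  have hinj : ∀ m : M, V m = 1 → m = 1 := by
    intro m hm
    rw [hV] at hm
    have h1 : orderOf m ∣ M.index := orderOf_dvd_of_pow_eq_one hm
    have h2 : orderOf m ∣ Nat.card M := orderOf_dvd_natCard m
    have h3 : orderOf m = 1 := Nat.eq_one_of_dvd_coprimes hcop h2 h1
    exact orderOf_eq_one_iff.mp h3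
  have hsurj : Function.Surjective V := by
    have h1 : Function.Injective (fun m : M => V m) := by
      intro a b hab
      have : V ((a * b⁻¹ : M) : G) = 1 := by
        simp only [Subgroup.coe_mul, Subgroup.coe_inv, map_mul, map_inv]
        rw [show V a = V b from hab, mul_inv_cancel]
      have := hinj _ this
      exact mul_inv_eq_one.mp this
    have h2 := Finite.surjective_of_injective h1
    intro y
    obtain ⟨m, hm⟩ := h2 y
    exact ⟨m, hm⟩
  refine ⟨V.ker, inferInstance, ?_, ?_⟩
  · rw [eq_bot_iff]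
    rintro x ⟨hx1, hx2⟩
    have := hinj ⟨x, hx2⟩ (MonoidHom.mem_ker.mp hx1)
    exact Subgroup.mem_bot.mpr (congrArg Subtype.val this)
  · have h1 : V.ker.index = Nat.card M := by
      rw [Subgroup.index_ker, MonoidHom.range_eq_top.mpr hsurj, Subgroup.card_top]
    have h2 := Subgroup.card_mul_index V.ker
    have h3 := Subgroup.card_mul_index M
    rw [h1] at h2
    have h4 : 0 < Nat.card M := Nat.card_pos
    rw [← h3, mul_comm] at h2
    exact Nat.eq_of_mul_eq_mul_left h4 h2

theorem TI_of_core_free [Finite G] (M : Subgroup G) [IsMulCommutative M]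
    (hM : IsCoatom M) (hcore : M.normalCore = ⊥) :
    ∀ g : G, g ∉ M → ∀ m ∈ M, g⁻¹ * m * g ∈ M → m = 1 := by
  intro g hg m hm hgm
  by_cases hn : M.Normal
  · have : M.normalCore = M := Subgroup.normalCore_eq_self M
    rw [hcore] at this
    rw [← this] at hm
    exact Subgroup.mem_bot.mp hm
  · have hN : Subgroup.normalizer (M : Set G) = M := by
      by_contra hne
      have h1 := hM.2 _ (lt_of_le_of_ne Subgroup.le_normalizer (Ne.symm hne))
      exact hn (Subgroup.normalizer_eq_top_iff.mp h1)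
    have hgM : MulAut.conj g • M ≠ M := by
      intro h
      rw [conj_smul_eq_iff_mem_normalizer, hN] at h
      exact hg h
    have hsup : M ⊔ MulAut.conj g • M = ⊤ := by
      apply hM.2
      apply lt_of_le_of_ne le_sup_left
      intro h
      have h1 : MulAut.conj g • M ≤ M := by
        have h2 : MulAut.conj g • M ≤ M ⊔ MulAut.conj g • M := le_sup_right
        rwa [← h] at h2
      exact hgM (conj_smul_eq_of_ge h1)
    have hc : M ⊔ MulAut.conj g • M ≤ Subgroup.centralizer {m} := by
      apply sup_le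
      · intro y hy
        rw [Subgroup.mem_centralizer_singleton_iff]
        exact congrArg Subtype.val (mul_comm' (⟨y, hy⟩ : M) ⟨m, hm⟩)
      · intro y hy
        rw [mem_conj_smul] at hy
        rw [Subgroup.mem_centralizer_singleton_iff]
        have h3 : (g⁻¹ * y * g) * (g⁻¹ * m * g) = (g⁻¹ * m * g) * (g⁻¹ * y * g) :=
          congrArg Subtype.val (mul_comm' (⟨_, hy⟩ : M) ⟨_, hgm⟩)
        have h4 : g⁻¹ * (y * m) * g = g⁻¹ * (m * y) * g := by
          calc g⁻¹ * (y * m) * g = (g⁻¹ * y * g) * (g⁻¹ * m * g) := by group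
            _ = (g⁻¹ * m * g) * (g⁻¹ * y * g) := h3
            _ = g⁻¹ * (m * y) * g := by group
        exact mul_left_cancel (mul_right_cancel h4)
    rw [hsup] at hc
    have hmc : m ∈ M.normalCore := by
      intro b
      have h5 := hc (Subgroup.mem_top b)
      rw [Subgroup.mem_centralizer_singleton_iff] at h5
      rw [h5, mul_inv_cancel_right]
      exact hm
    rw [hcore] at hmc
    exact Subgroup.mem_bot.mp hmc

theorem exists_abelian_normal_of_core_free [Finite G] (M : Subgroup G) [IsMulCommutative M]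
    (hM : IsCoatom M) (hcore : M.normalCore = ⊥) :
    ∃ K : Subgroup G, K.Normal ∧ IsMulCommutative K ∧ commutator G ≤ K := by
  have hTI := TI_of_core_free M hM hcore
  have hcop := coprime_of_TI M hTI
  obtain ⟨K, hKn, hKM, hKc⟩ := exists_normal_complement M hTI
  have hGc := Subgroup.card_mul_index M
  have hMpos : 0 < Nat.card M := Nat.card_pos
  -- any `M`-invariant nontrivial subgroup of `K` is `K`
  have key : ∀ Q : Subgroup G, Q ≤ K → Q ≠ ⊥ → M ≤ Subgroup.normalizer (Q : Set G) → Q = K := by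
    intro Q hQK hQ hMQ
    have h1 : ¬ Q ≤ M := by
      intro h
      apply hQ
      rw [eq_bot_iff, ← hKM]
      exact le_inf hQK h
    have h2 : M ⊔ Q = ⊤ := by
      apply hM.2
      apply lt_of_le_of_ne le_sup_left
      intro h
      apply h1
      have h3 : Q ≤ M ⊔ Q := le_sup_right
      rwa [← h] at h3
    have h3 : (Nat.card M).Coprime (Nat.card Q) :=
      Nat.Coprime.coprime_dvd_right (Subgroup.card_dvd_of_le hQK) (hKc ▸ hcop)
    have h4 := Cfsg.Agent.Lib.Helper1.card_sup_of_coprime M Q hMQ h3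
    rw [h2, Subgroup.card_top, ← hGc, ← hKc] at h4
    have h5 := Nat.eq_of_mul_eq_mul_left hMpos h4
    exact Subgroup.eq_of_le_of_card_ge hQK h5.le
  have hK1 : Nat.card K ≠ 1 := by
    intro h
    rw [hKc, Subgroup.index_eq_one] at h
    exact hM.1 h
  have hMK : M ≤ Subgroup.normalizer (K : Set G) := by
    rw [Subgroup.normalizer_eq_top_iff.mpr hKn]
    exact le_top
  set q := (Nat.card K).minFac with hq
  have hqp : q.Prime := Nat.minFac_prime hK1
  have : Fact q.Prime := ⟨hqp⟩
  obtain ⟨Q, hQK, hQc, hMQ⟩ := Cfsg.Agent.Lib.Helper1.exists_invariant_sylow M K hMK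
    (hKc ▸ hcop) (Or.inl (Group.isSolvable_of_comm (fun a b => mul_comm' a b))) q
  have hQb : Q ≠ ⊥ := by
    rintro rfl
    rw [Subgroup.card_bot] at hQc
    have h1 : (Nat.card K).factorization q ≠ 0 := by
      have := (hqp.dvd_iff_one_le_factorization Nat.card_pos.ne').mp (Nat.minFac_dvd (Nat.card K))
      omega
    have h2 : 1 < q ^ (Nat.card K).factorization q := Nat.one_lt_pow h1 hqp.one_lt
    omega
  have hQK' := key Q hQK hQb hMQ
  have hKp : IsPGroup q K := by
    rw [← hQK']
    exact IsPGroup.of_card hQc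
  have hKnt : Nontrivial K := by
    rw [Subgroup.nontrivial_iff_ne_bot]
    rw [← hQK']; exact hQb
  have hZnt : Nontrivial (Subgroup.center K) := hKp.center_nontrivial
  have hZn : ((Subgroup.center K).map K.subtype).Normal :=
    Cfsg.Agent.Lib.Helper1.map_characteristic_normal (Subgroup.center K)
  have hZ := key ((Subgroup.center K).map K.subtype) (Subgroup.map_subtype_le _)
    (by
      intro h
      rw [Subgroup.map_eq_bot_iff_of_injective _ K.subtype_injective] at h
      exact (Subgroup.nontrivial_iff_ne_bot _).mp hZnt h)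
    (by
      rw [Subgroup.normalizer_eq_top_iff.mpr hZn]
      exact le_top)
  refine ⟨K, hKn, ?_, ?_⟩
  · constructor
    constructor
    intro a b
    have ha : (a : G) ∈ (Subgroup.center K).map K.subtype := by rw [hZ]; exact a.2
    obtain ⟨a', ha', haa⟩ := Subgroup.mem_map.mp ha
    have : a' = a := Subtype.ext haa
    rw [this] at ha'
    exact (Subgroup.mem_center_iff.mp ha' b).symm
  · apply Subgroup.Normal.commutator_le_of_self_sup_commutative_eq_top (H := M) _ inferInstance
    apply hM.2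
    rw [sup_comm]
    apply lt_of_le_of_ne le_sup_left
    intro h
    have h3 : K ≤ M ⊔ K := le_sup_right
    rw [← h] at h3
    have h4 : K = ⊥ := by
      rw [eq_bot_iff, ← hKM]
      exact le_inf le_rfl h3
    rw [h4, Subgroup.card_bot] at hK1
    exact hK1 rfl

/-- Herstein: a finite group with an abelian maximal subgroup has derived length at most 3. -/
theorem derivedSeries_three_eq_bot [Finite G] (A : Subgroup G) (hA : IsCoatom A)
    [IsMulCommutative A] : derivedSeries G 3 = ⊥ := by
  set N := A.normalCore with hN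
  have hNA : N ≤ A := A.normalCore_le
  have hcoatom : IsCoatom (A.map (QuotientGroup.mk' N)) :=
    Cfsg.Agent.Lib.Helper2.Supersolvable.isCoatom_map_of_le hA hNA
  have hcomm : IsMulCommutative (A.map (QuotientGroup.mk' N)) := by
    constructor
    constructor
    rintro ⟨_, a, ha, rfl⟩ ⟨_, b, hb, rfl⟩
    apply Subtype.ext
    change QuotientGroup.mk' N a * QuotientGroup.mk' N b =
      QuotientGroup.mk' N b * QuotientGroup.mk' N a
    rw [← map_mul, ← map_mul]
    congr 1
    exact congrArg Subtype.val (mul_comm' (⟨a, ha⟩ : A) ⟨b, hb⟩)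
  have hcomap : (A.map (QuotientGroup.mk' N)).comap (QuotientGroup.mk' N) = A := by
    rw [Subgroup.comap_map_eq, QuotientGroup.ker_mk', sup_eq_left.mpr hNA]
  have hcore : (A.map (QuotientGroup.mk' N)).normalCore = ⊥ := by
    rw [eq_bot_iff]
    intro x hx
    obtain ⟨x, rfl⟩ := QuotientGroup.mk'_surjective N x
    rw [Subgroup.mem_bot]
    apply (QuotientGroup.eq_one_iff x).mpr
    intro b
    have h1 := hx (QuotientGroup.mk' N b)
    rw [← map_inv, ← map_mul, ← map_mul, ← Subgroup.mem_comap, hcomap] at h1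
    exact h1
  obtain ⟨K, hKn, hKc, hK⟩ := exists_abelian_normal_of_core_free _ hcoatom hcore
  have h2 : derivedSeries (G ⧸ N) 2 = ⊥ := by
    rw [derivedSeries_succ, derivedSeries_one, eq_bot_iff]
    calc ⁅commutator (G ⧸ N), commutator (G ⧸ N)⁆ ≤ ⁅K, K⁆ := Subgroup.commutator_mono hK hK
      _ = ⊥ := by
        rw [Subgroup.commutator_eq_bot_iff_le_centralizer]
        intro x hx y hy
        exact congrArg Subtype.val (mul_comm' (⟨y, hy⟩ : K) ⟨x, hx⟩)
  have h3 : derivedSeries G 2 ≤ A := by
    have := map_derivedSeries_eq (QuotientGroup.mk'_surjective N) 2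
    rw [h2, Subgroup.map_eq_bot_iff, QuotientGroup.ker_mk'] at this
    exact this.trans hNA
  rw [derivedSeries_succ, eq_bot_iff]
  calc ⁅derivedSeries G 2, derivedSeries G 2⁆ ≤ ⁅A, A⁆ := Subgroup.commutator_mono h3 h3
    _ = ⊥ := by
      rw [Subgroup.commutator_eq_bot_iff_le_centralizer]
      intro x hx y hy
      exact congrArg Subtype.val (mul_comm' (⟨y, hy⟩ : A) ⟨x, hx⟩)

theorem isSolvable_of_abelian_coatom [Finite G] (A : Subgroup G) (hA : IsCoatom A)
    [IsMulCommutative A] : Group.IsSolvable G :=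
  ⟨⟨3, derivedSeries_three_eq_bot A hA⟩⟩

end Cfsg.Agent.Lib.Helper2.Herstein
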