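import Mathlib
import Cfsg.Agent.Lib.Helper2.Herstein
import Cfsg.Agent.Lib.Helper1.Frobenius

set_option autoImplicit false

namespace Cfsg.Agent.Lib.Helper2.CentMax

variable {G : Type*} [Group G]

theorem cent_le_cent_pow (w : G) (k : ℕ) :
    Subgroup.centralizer ({w} : Set G) ≤ Subgroup.centralizer ({w ^ k} : Set G) := by
  intro g hg
  rw [Subgroup.mem_centralizer_singleton_iff] at hg ⊢
  exact (Commute.pow_right (show Commute g w from hg) k)

theorem exists_second_center {P : Type*} [Group P] [Finite P] {p : ℕ} [Fact p.Prime]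
    (hP : IsPGroup p P) (hna : ¬ ∀ a b : P, a * b = b * a) :
    ∃ z : P, z ∉ Subgroup.center P ∧ ∀ h : P, h * z * h⁻¹ * z⁻¹ ∈ Subgroup.center P := by
  have hnt : Nontrivial (P ⧸ Subgroup.center P) := by
    by_contra hnt
    rw [not_nontrivial_iff_subsingleton] at hnt
    apply hna
    intro a b
    have : a ∈ Subgroup.center P := by
      rw [← QuotientGroup.eq_one_iff]
      exact Subsingleton.elim _ _
    exact (Subgroup.mem_center_iff.mp this b).symm
  have := (hP.to_quotient (Subgroup.center P)).center_nontrivial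
  obtain ⟨⟨z, hz⟩, hz1⟩ := exists_ne (1 : Subgroup.center (P ⧸ Subgroup.center P))
  obtain ⟨z, rfl⟩ := QuotientGroup.mk_surjective z
  refine ⟨z, ?_, ?_⟩
  · intro hzc
    apply hz1
    apply Subtype.ext
    exact (QuotientGroup.eq_one_iff z).mpr hzc
  · intro h
    rw [← QuotientGroup.eq_one_iff]
    have h1 := Subgroup.mem_center_iff.mp hz (h : P ⧸ Subgroup.center P)
    rw [QuotientGroup.mk_mul, QuotientGroup.mk_mul, QuotientGroup.mk_mul, h1,
      QuotientGroup.mk_inv, QuotientGroup.mk_inv]
    group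

section

variable (h : ∀ g : G, g ≠ 1 → IsCoatom (Subgroup.centralizer ({g} : Set G)))
include h

theorem cent_eq_of_le {u v : G} (hu : u ≠ 1) (hv : v ≠ 1)
    (hle : Subgroup.centralizer ({u} : Set G) ≤ Subgroup.centralizer ({v} : Set G)) :
    Subgroup.centralizer ({u} : Set G) = Subgroup.centralizer ({v} : Set G) :=
  (((h u hu).le_iff.mp hle).resolve_left (h v hv).1).symm

theorem cent_pow_eq {w : G} {k : ℕ} (hk : w ^ k ≠ 1) :
    Subgroup.centralizer ({w ^ k} : Set G) = Subgroup.centralizer ({w} : Set G) := by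
  have hw : w ≠ 1 := by
    rintro rfl
    exact hk (one_pow k)
  exact (cent_eq_of_le h hw hk (cent_le_cent_pow w k)).symm

theorem cent_eq_of_coprime_aux {x y : G} (hx : x ≠ 1) (hxy : Commute x y)
    (hcop : (orderOf x).Coprime (orderOf y)) :
    Subgroup.centralizer ({x * y} : Set G) = Subgroup.centralizer ({x} : Set G) := by
  have e1 : (x * y) ^ (orderOf y) = x ^ (orderOf y) := by
    rw [hxy.mul_pow, pow_orderOf_eq_one, mul_one]
  have n1 : x ^ (orderOf y) ≠ 1 := by
    intro h0
    have h1 := orderOf_dvd_of_pow_eq_one h0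
    have h2 : orderOf x = 1 := Nat.Coprime.eq_one_of_dvd hcop h1
    exact hx (orderOf_eq_one_iff.mp h2)
  rw [← cent_pow_eq h (e1 ▸ n1 : (x * y) ^ (orderOf y) ≠ 1), e1, cent_pow_eq h n1]

theorem cent_eq_of_coprime {x y : G} (hx : x ≠ 1) (hy : y ≠ 1) (hxy : Commute x y)
    (hcop : (orderOf x).Coprime (orderOf y)) :
    Subgroup.centralizer ({x} : Set G) = Subgroup.centralizer ({y} : Set G) := by
  rw [← cent_eq_of_coprime_aux h hx hxy hcop, hxy.eq,
    cent_eq_of_coprime_aux h hy hxy.symm hcop.symm]

theorem isPGroup_or_comm [Finite G] {x : G} {p : ℕ} (hp : p.Prime) (hx : orderOf x = p) :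
    IsPGroup p (Subgroup.centralizer ({x} : Set G)) ∨
      (∀ a ∈ Subgroup.centralizer ({x} : Set G), ∀ b ∈ Subgroup.centralizer ({x} : Set G),
        a * b = b * a) := by
  have hx1 : x ≠ 1 := by
    rintro rfl
    rw [orderOf_one] at hx
    exact hp.one_lt.ne hx
  by_cases hq : ∀ q : ℕ, q.Prime → q ∣ Nat.card (Subgroup.centralizer ({x} : Set G)) → q = p
  · left
    exact IsPGroup.of_card (Nat.eq_prime_pow_of_unique_prime_dvd Nat.card_pos.ne'
      (fun {d} hd hdvd => hq d hd hdvd))
  · right
    push Not at hq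
    obtain ⟨q, hqp, hqd, hqne⟩ := hq
    have : Fact q.Prime := ⟨hqp⟩
    obtain ⟨y, hy⟩ := exists_prime_orderOf_dvd_card' q hqd
    have hyo : orderOf (y : G) = q := by rw [Subgroup.orderOf_coe, hy]
    have hy1 : (y : G) ≠ 1 := by
      intro h0
      rw [h0, orderOf_one] at hyo
      exact hqp.one_lt.ne hyo
    have hpq : p.Coprime q := (Nat.coprime_primes hp hqp).mpr (Ne.symm hqne)
    have hyx : Commute (y : G) x := Subgroup.mem_centralizer_singleton_iff.mp y.2
    have hCy : Subgroup.centralizer ({x} : Set G) = Subgroup.centralizer ({(y : G)} : Set G) :=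
      cent_eq_of_coprime h hx1 hy1 hyx.symm (by rw [hx, hyo]; exact hpq)
    have key : ∀ w ∈ Subgroup.centralizer ({x} : Set G), w ≠ 1 →
        Subgroup.centralizer ({w} : Set G) = Subgroup.centralizer ({x} : Set G) := by
      intro w hw hw1
      by_cases hpw : p ∣ orderOf w
      · have ho : orderOf (w ^ (orderOf w / p)) = p :=
          orderOf_pow_orderOf_div (orderOf_pos w).ne' hpw
        have hw'1 : w ^ (orderOf w / p) ≠ 1 := by
          intro h0
          rw [h0, orderOf_one] at ho
          exact hp.one_lt.ne ho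
        have hw'y : Commute (w ^ (orderOf w / p)) (y : G) := by
          have : w ^ (orderOf w / p) ∈ Subgroup.centralizer ({(y : G)} : Set G) := by
            rw [← hCy]
            exact Subgroup.pow_mem _ hw _
          exact Subgroup.mem_centralizer_singleton_iff.mp this
        rw [← cent_pow_eq h hw'1, hCy]
        exact cent_eq_of_coprime h hw'1 hy1 hw'y (by rw [ho, hyo]; exact hpq)
      · have hwx : Commute w x := Subgroup.mem_centralizer_singleton_iff.mp hw
        exact cent_eq_of_coprime h hw1 hx1 hwx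
          (by rw [hx]; exact ((Nat.Prime.coprime_iff_not_dvd hp).mpr hpw).symm)
    intro a ha b hb
    by_cases hb1 : b = 1
    · rw [hb1, mul_one, one_mul]
    · have := key b hb hb1
      rw [← this] at ha
      exact Subgroup.mem_centralizer_singleton_iff.mp ha

theorem isSolvable_of_centerless [Finite G] : Group.IsSolvable G := by
  by_cases hab : ∃ x : G, x ≠ 1 ∧ ∀ a ∈ Subgroup.centralizer ({x} : Set G),
      ∀ b ∈ Subgroup.centralizer ({x} : Set G), a * b = b * a
  · obtain ⟨x, hx1, hx⟩ := hab
    have : IsMulCommutative (Subgroup.centralizer ({x} : Set G)) :=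
      ⟨⟨fun a b => Subtype.ext (hx a a.2 b b.2)⟩⟩
    exact Herstein.isSolvable_of_abelian_coatom _ (h x hx1)
  push Not at hab
  have hP : ∀ (p : ℕ) (x : G), p.Prime → orderOf x = p →
      IsPGroup p (Subgroup.centralizer ({x} : Set G)) := by
    intro p x hp hx
    rcases isPGroup_or_comm h hp hx with h1 | h1
    · exact h1
    · exfalso
      have hx1 : x ≠ 1 := by
        rintro rfl
        rw [orderOf_one] at hx
        exact hp.one_lt.ne hx
      obtain ⟨a, ha, b, hb, hne⟩ := hab x hx1
      exact hne (h1 a ha b hb)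
  by_cases hG1 : Nat.card G = 1
  · have : Subsingleton G := (Nat.card_eq_one_iff_unique.mp hG1).1
    exact Group.isSolvable_of_comm (fun a b => Subsingleton.elim _ _)
  set p := (Nat.card G).minFac with hpdef
  have hp : p.Prime := Nat.minFac_prime hG1
  have hpF : Fact p.Prime := ⟨hp⟩
  obtain ⟨x, hx⟩ := exists_prime_orderOf_dvd_card' p (Nat.minFac_dvd (Nat.card G))
  have hx1 : x ≠ 1 := by
    rintro rfl
    rw [orderOf_one] at hx
    exact hp.one_lt.ne hx
  set M := Subgroup.centralizer ({x} : Set G) with hM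
  have hMp : IsPGroup p M := hP p x hp hx
  have hMna : ¬ ∀ a b : M, a * b = b * a := by
    intro hc
    obtain ⟨a, ha, b, hb, hne⟩ := hab x hx1
    exact hne (congrArg Subtype.val (hc ⟨a, ha⟩ ⟨b, hb⟩))
  obtain ⟨z', hz1, hz2⟩ := exists_second_center hMp hMna
  set z : G := (z' : G) with hz
  have hzM : z ∈ M := z'.2
  have hzne : z ≠ 1 := by
    intro h0
    apply hz1
    have : z' = 1 := Subtype.ext h0
    rw [this]
    exact Subgroup.one_mem _
  set M' := Subgroup.centralizer ({z} : Set G) with hM'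
  have hM'p : IsPGroup p M' := by
    obtain ⟨k, hk⟩ := IsPGroup.iff_orderOf.mp hMp z'
    have hk' : orderOf z = p ^ k := by rw [hz, Subgroup.orderOf_coe, hk]
    have hk0 : k ≠ 0 := by
      rintro rfl
      rw [pow_zero, orderOf_eq_one_iff] at hk'
      exact hzne hk'
    have hpz : p ∣ orderOf z := by
      rw [hk']
      exact dvd_pow_self p hk0
    have ho : orderOf (z ^ (orderOf z / p)) = p :=
      orderOf_pow_orderOf_div (orderOf_pos z).ne' hpz
    have hw1 : z ^ (orderOf z / p) ≠ 1 := by
      intro h0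
      rw [h0, orderOf_one] at ho
      exact hp.one_lt.ne ho
    rw [hM', ← cent_pow_eq h hw1]
    exact hP p _ hp ho
  have hM'M : ¬ M' ≤ M := by
    intro hle
    have h1 : M' = M := cent_eq_of_le h hzne hx1 hle
    apply hz1
    rw [Subgroup.mem_center_iff]
    intro g
    have h2 : (g : G) ∈ M' := by rw [h1]; exact g.2
    exact Subtype.ext (Subgroup.mem_centralizer_singleton_iff.mp h2)
  set D := M ⊓ M' with hD
  have hDM' : D < M' := by
    apply lt_of_le_of_ne inf_le_right
    intro h0
    apply hM'M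
    rw [← h0]
    exact inf_le_left
  have hxD : x ∈ D := by
    refine Subgroup.mem_inf.mpr ⟨?_, ?_⟩
    · exact Subgroup.mem_centralizer_singleton_iff.mpr rfl
    · exact Subgroup.mem_centralizer_singleton_iff.mpr
        (Subgroup.mem_centralizer_singleton_iff.mp hzM).symm
  have hMD : M ≤ Subgroup.normalizer (D : Set G) := by
    rw [Subgroup.le_normalizer_iff]
    intro g hg d hd
    obtain ⟨hd1, hd2⟩ := Subgroup.mem_inf.mp hd
    refine Subgroup.mem_inf.mpr ⟨M.mul_mem (M.mul_mem hg hd1) (M.inv_mem hg), ?_⟩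
    rw [Subgroup.mem_centralizer_singleton_iff]
    have hc := hz2 (⟨g, hg⟩⁻¹ : M)
    have hc' := Subgroup.mem_center_iff.mp hc ⟨d, hd1⟩
    have hc'' : d * (g⁻¹ * z * g⁻¹⁻¹ * z⁻¹) = (g⁻¹ * z * g⁻¹⁻¹ * z⁻¹) * d :=
      congrArg Subtype.val hc'
    have hdz : d * z = z * d := Subgroup.mem_centralizer_singleton_iff.mp hd2
    rw [inv_inv] at hc''
    have e1 : d * (g⁻¹ * z * g) = (g⁻¹ * z * g) * d := by
      calc d * (g⁻¹ * z * g) = d * (g⁻¹ * z * g * z⁻¹) * z := by group
        _ = (g⁻¹ * z * g * z⁻¹) * d * z := by rw [hc'']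
        _ = (g⁻¹ * z * g * z⁻¹) * (d * z) := by group
        _ = (g⁻¹ * z * g * z⁻¹) * (z * d) := by rw [hdz]
        _ = (g⁻¹ * z * g) * d := by group
    calc g * d * g⁻¹ * z = g * (d * (g⁻¹ * z * g)) * g⁻¹ := by group
      _ = g * ((g⁻¹ * z * g) * d) * g⁻¹ := by rw [e1]
      _ = z * (g * d * g⁻¹) := by group
  have hDn : D.Normal := by
    rw [← Subgroup.normalizer_eq_top_iff]
    obtain ⟨n, hn1, hn2⟩ := SetLike.exists_of_lt
      (Cfsg.Agent.Lib.Helper1.lt_inf_normalizer_of_lt hM'p hDM')
    obtain ⟨hn3, hn4⟩ := Subgroup.mem_inf.mp hn1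
    apply (h x hx1).2
    apply lt_of_le_of_ne hMD
    intro h0
    apply hn2
    refine Subgroup.mem_inf.mpr ⟨?_, hn3⟩
    rw [h0]
    exact hn4
  have hDp : IsPGroup p D := hMp.to_le inf_le_left
  have hDsol : Group.IsSolvable D := by
    have : Group.IsNilpotent D := hDp.isNilpotent
    infer_instance
  by_cases hq : ∀ q : ℕ, q.Prime → q ∣ Nat.card G → q = p
  · have hGp : IsPGroup p G := IsPGroup.of_card (Nat.eq_prime_pow_of_unique_prime_dvd
      Nat.card_pos.ne' (fun {d} hd hdvd => hq d hd hdvd))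
    have : Group.IsNilpotent G := hGp.isNilpotent
    infer_instance
  push Not at hq
  obtain ⟨q, hqp, hqd, hqne⟩ := hq
  have hqF : Fact q.Prime := ⟨hqp⟩
  obtain ⟨y, hy⟩ := exists_prime_orderOf_dvd_card' q hqd
  have hy1 : y ≠ 1 := by
    rintro rfl
    rw [orderOf_one] at hy
    exact hqp.one_lt.ne hy
  set L := Subgroup.centralizer ({y} : Set G) with hL
  have hLq : IsPGroup q L := hP q y hqp hy
  have hxL : x ∉ L := by
    intro hxL
    obtain ⟨k, hk⟩ := IsPGroup.iff_orderOf.mp hLq ⟨x, hxL⟩
    rw [← Subgroup.orderOf_coe] at hk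
    change orderOf x = q ^ k at hk
    rw [hx] at hk
    have h1 : q ∣ p := by
      rw [hk]
      apply dvd_pow_self
      rintro rfl
      rw [pow_zero] at hk
      exact hp.one_lt.ne' hk
    exact hqne ((Nat.prime_dvd_prime_iff_eq hqp hp).mp h1)
  have hDL : D ⊔ L = ⊤ := by
    apply (h y hy1).2
    rw [sup_comm]
    apply lt_of_le_of_ne le_sup_left
    intro h0
    apply hxL
    have h1 : x ∈ L ⊔ D := Subgroup.mem_sup_right hxD
    rwa [← h0] at h1
  have hLsol : Group.IsSolvable L := by
    have : Group.IsNilpotent L := hLq.isNilpotent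
    infer_instance
  have hQsol : Group.IsSolvable (G ⧸ D) := by
    apply Group.isSolvable_of_surjective (f := (QuotientGroup.mk' D).comp L.subtype)
    intro c
    obtain ⟨g, rfl⟩ := QuotientGroup.mk'_surjective D c
    have hg : g ∈ D ⊔ L := by rw [hDL]; exact Subgroup.mem_top g
    rw [← SetLike.mem_coe, Subgroup.normal_mul] at hg
    obtain ⟨d, hd, l, hl, rfl⟩ := Set.mem_mul.mp hg
    refine ⟨⟨l, hl⟩, ?_⟩
    change QuotientGroup.mk' D l = QuotientGroup.mk' D (d * l)
    have hd1 : QuotientGroup.mk' D d = 1 := (QuotientGroup.eq_one_iff d).mpr hd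
    rw [map_mul, hd1, one_mul]
  exact (Group.isSolvable_iff_subgroup_quotient D).mpr ⟨hDsol, hQsol⟩

end

/-- The hypothesis passes to the quotient by the center. -/
theorem quotient_center
    (h : ∀ g : G, g ∉ Subgroup.center G → IsCoatom (Subgroup.centralizer ({g} : Set G))) :
    ∀ c : G ⧸ Subgroup.center G, c ∉ Subgroup.center (G ⧸ Subgroup.center G) →
      IsCoatom (Subgroup.centralizer ({c} : Set (G ⧸ Subgroup.center G))) := by
  intro c hc
  obtain ⟨g, rfl⟩ := QuotientGroup.mk'_surjective (Subgroup.center G) c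
  have hg : g ∉ Subgroup.center G := by
    intro hg
    apply hc
    have : QuotientGroup.mk' (Subgroup.center G) g = 1 := (QuotientGroup.eq_one_iff g).mpr hg
    rw [this]
    exact Subgroup.one_mem _
  have hle : Subgroup.center G ≤ Subgroup.centralizer ({g} : Set G) := by
    intro a ha
    rw [Subgroup.mem_centralizer_singleton_iff]
    exact (Subgroup.mem_center_iff.mp ha g).symm
  have h1 := Cfsg.Agent.Lib.Helper2.Supersolvable.isCoatom_map_of_le (h g hg) hle
  have h2 : (Subgroup.centralizer ({g} : Set G)).map (QuotientGroup.mk' (Subgroup.center G)) ≤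
      Subgroup.centralizer ({QuotientGroup.mk' (Subgroup.center G) g} : Set _) := by
    rintro _ ⟨a, ha, rfl⟩
    rw [Subgroup.mem_centralizer_singleton_iff, ← map_mul, ← map_mul,
      Subgroup.mem_centralizer_singleton_iff.mp ha]
  rcases h1.le_iff.mp h2 with h3 | h3
  · exfalso
    apply hc
    rw [Subgroup.mem_center_iff]
    intro b
    have : b ∈ Subgroup.centralizer ({QuotientGroup.mk' (Subgroup.center G) g} : Set _) := by
      rw [h3]; exact Subgroup.mem_top b
    exact Subgroup.mem_centralizer_singleton_iff.mp this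
  · rw [h3]; exact h1

universe u

theorem isSolvable_aux : ∀ (n : ℕ) (G : Type u) [Group G] [Finite G], Nat.card G = n →
    (∀ g : G, g ∉ Subgroup.center G → IsCoatom (Subgroup.centralizer ({g} : Set G))) →
      Group.IsSolvable G := by
  intro n
  induction n using Nat.strong_induction_on with
  | _ n ih =>
  intro G _ _ hn h
  by_cases hZ : Subgroup.center G = ⊥
  · apply isSolvable_of_centerless
    intro g hg
    apply h
    rw [hZ, Subgroup.mem_bot]
    exact hg
  · have h1 : 1 < Nat.card (Subgroup.center G) := by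
      rw [Finite.one_lt_card_iff_nontrivial]
      exact (Subgroup.nontrivial_iff_ne_bot _).mpr hZ
    have h2 : 0 < (Subgroup.center G).index :=
      Nat.pos_of_ne_zero (Subgroup.index_ne_zero_of_finite)
    have hlt : Nat.card (G ⧸ Subgroup.center G) < n := by
      rw [← hn, ← Subgroup.index_eq_card, ← Subgroup.index_mul_card (Subgroup.center G)]
      nlinarith
    have hQ : Group.IsSolvable (G ⧸ Subgroup.center G) :=
      ih _ hlt (G ⧸ Subgroup.center G) rfl (quotient_center h)
    have hZs : Group.IsSolvable (Subgroup.center G) :=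
      Group.isSolvable_of_comm (fun a b => mul_comm' a b)
    exact (Group.isSolvable_iff_subgroup_quotient (Subgroup.center G)).mpr ⟨hZs, hQ⟩

end Cfsg.Agent.Lib.Helper2.CentMax
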