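import Mathlib
import Cfsg.Agent.Lib.Helper2.Basic

set_option autoImplicit false

namespace Cfsg.Agent.Lib.Helper2.Index

open Cfsg.Agent.Lib.Helper2.Basic

variable {G : Type*} [Group G]

/-- For `N` normal: `|NK : K| = |N : N ∩ K|`. -/
theorem relIndex_sup_of_normal [Finite G] (N K : Subgroup G) [N.Normal] :
    K.relIndex (N ⊔ K) = K.relIndex N := by
  have e1 := card_inf_mul_relIndex N K
  have e2 := card_inf_mul_relIndex K N
  have e3 := card_inf_mul_relIndex N (N ⊔ K)
  have e4 := card_inf_mul_relIndex K (N ⊔ K)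
  rw [inf_of_le_left le_sup_left, Subgroup.relIndex_sup_left] at e3
  rw [inf_of_le_left le_sup_right] at e4
  rw [inf_comm] at e2
  have hpos : 0 < Nat.card K := Nat.card_pos
  apply Nat.eq_of_mul_eq_mul_left hpos
  rw [e4, ← e3, ← e2, ← e1]
  ring

/-- For `N` normal: `|N : N ∩ K|` divides `|G : K|`. -/
theorem relIndex_normal_dvd_index [Finite G] (N K : Subgroup G) [N.Normal] :
    K.relIndex N ∣ K.index := by
  rw [← relIndex_sup_of_normal]
  exact Subgroup.relIndex_dvd_index_of_le le_sup_right

end Cfsg.Agent.Lib.Helper2.Index
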