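import Mathlib
import Cfsg.Agent.Lib.Helper2.Schmidt

set_option autoImplicit false

namespace Cfsg.Agent.Lib.Helper2.Schmidt

open scoped Pointwise
open Cfsg.Agent.Lib.Helper2.Conj Cfsg.Agent.Lib.Helper2.Basic Cfsg.Agent.Lib.Helper2.Jordan

/-- A finite nonabelian simple group has two distinct maximal subgroups meeting nontrivially. -/
theorem false_of_simple_TI {G : Type*} [Group G] [Finite G] [IsSimpleGroup G]
    (hna : ¬ ∀ a b : G, a * b = b * a)
    (hTI : ∀ M L : Subgroup G, IsCoatom M → IsCoatom L → M ≠ L → M ⊓ L = ⊥) : False := by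
  have hnb : ∀ M : Subgroup G, IsCoatom M → M ≠ ⊥ := by
    rintro M hM rfl
    apply hna
    intro a b
    by_cases ha : a = 1
    · rw [ha, one_mul, mul_one]
    · have h1 : (⊥ : Subgroup G) < Subgroup.zpowers a := by
        rw [bot_lt_iff_ne_bot]
        intro h2
        exact ha (Subgroup.zpowers_eq_bot.mp h2)
      have h2 := hM.2 _ h1
      have h3 : b ∈ Subgroup.zpowers a := h2 ▸ Subgroup.mem_top b
      obtain ⟨k, rfl⟩ := Subgroup.mem_zpowers_iff.mp h3
      exact ((Commute.refl a).zpow_right k)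
  have hsn : ∀ M : Subgroup G, IsCoatom M → Subgroup.normalizer (M : Set G) = M := by
    intro M hM
    by_contra hne
    have h1 := hM.2 _ (lt_of_le_of_ne Subgroup.le_normalizer (Ne.symm hne))
    have hn : M.Normal := Subgroup.normalizer_eq_top_iff.mp h1
    rcases hn.eq_bot_or_eq_top with h2 | h2
    · exact hnb M hM h2
    · exact hM.1 h2
  have hmemconj : ∀ (M : Subgroup G) (x a : G), x • (a : G ⧸ M) = (a : G ⧸ M) →
      x ∈ MulAut.conj a • M := by
    intro M x a ha
    rw [mem_conj_smul]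
    rw [MulAction.Quotient.smul_coe, smul_eq_mul, eq_comm, QuotientGroup.eq] at ha
    rwa [← mul_assoc] at ha
  have hfix : ∀ M : Subgroup G, IsCoatom M →
      ∀ x : G, x ≠ 1 → ∀ a b : G ⧸ M, x • a = a → x • b = b → a = b := by
    intro M hM x hx a b ha hb
    obtain ⟨a, rfl⟩ := QuotientGroup.mk_surjective a
    obtain ⟨b, rfl⟩ := QuotientGroup.mk_surjective b
    have h1 := hmemconj M x a ha
    have h2 := hmemconj M x b hb
    have h3 : MulAut.conj a • M = MulAut.conj b • M := by
      by_contra hne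
      have := hTI _ _ (isCoatom_conj_smul hM a) (isCoatom_conj_smul hM b) hne
      have h4 : x ∈ MulAut.conj a • M ⊓ MulAut.conj b • M := ⟨h1, h2⟩
      rw [this, Subgroup.mem_bot] at h4
      exact hx h4
    have h4 : MulAut.conj (a⁻¹ * b) • M = M := by
      rw [conj_mul_smul, ← h3, conj_inv_smul_smul]
    rw [conj_smul_eq_iff_mem_normalizer, hsn M hM] at h4
    exact QuotientGroup.eq.mpr h4
  have hidx : ∀ M : Subgroup G, IsCoatom M → 2 * M.index ≤ Nat.card G := by
    intro M hM
    rw [← Subgroup.card_mul_index M]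
    apply Nat.mul_le_mul_right
    have : Nontrivial M := (Subgroup.nontrivial_iff_ne_bot M).mpr (hnb M hM)
    exact Finite.one_lt_card
  obtain ⟨M, hM, -⟩ := exists_isCoatom_ge (bot_ne_top : (⊥ : Subgroup G) ≠ ⊤)
  obtain ⟨x, hx⟩ := exists_not_mem_conj M hM.1
  have hxt : Subgroup.zpowers x ≠ ⊤ := by
    intro htop
    apply hna
    intro a b
    obtain ⟨i, rfl⟩ := Subgroup.mem_zpowers_iff.mp (htop ▸ Subgroup.mem_top a : a ∈ Subgroup.zpowers x)
    obtain ⟨j, rfl⟩ := Subgroup.mem_zpowers_iff.mp (htop ▸ Subgroup.mem_top b : b ∈ Subgroup.zpowers x)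
    rw [← zpow_add, ← zpow_add, add_comm]
  obtain ⟨L, hL, hxL⟩ := exists_isCoatom_ge hxt
  set AM : Set G := {y : G | y ≠ 1 ∧ ∃ g : G, y ∈ MulAut.conj g • M} with hAM
  set AL : Set G := {y : G | y ≠ 1 ∧ ∃ g : G, y ∈ MulAut.conj g • L} with hAL
  have c1 : Nat.card G ≤ M.index + AM.ncard := card_le_index_add_ncard M (hfix M hM)
  have c2 : Nat.card G ≤ L.index + AL.ncard := card_le_index_add_ncard L (hfix L hL)
  have hdisj : Disjoint AM AL := by
    rw [Set.disjoint_left]
    rintro y ⟨hy1, g, hg⟩ ⟨-, k, hk⟩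
    have h3 : MulAut.conj g • M = MulAut.conj k • L := by
      by_contra hne
      have := hTI _ _ (isCoatom_conj_smul hM g) (isCoatom_conj_smul hL k) hne
      have h4 : y ∈ MulAut.conj g • M ⊓ MulAut.conj k • L := ⟨hg, hk⟩
      rw [this, Subgroup.mem_bot] at h4
      exact hy1 h4
    have h4 : L = MulAut.conj (k⁻¹ * g) • M := by
      rw [conj_mul_smul, h3, conj_inv_smul_smul]
    apply hx (k⁻¹ * g)
    rw [← h4]
    exact hxL (Subgroup.mem_zpowers x)
  have c3 : AM.ncard + AL.ncard + 1 ≤ Nat.card G := by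
    rw [← Set.ncard_union_eq hdisj (Set.toFinite _) (Set.toFinite _)]
    have h1 : (1 : G) ∉ AM ∪ AL := by
      rintro (h | h)
      · exact h.1 rfl
      · exact h.1 rfl
    rw [← Set.ncard_insert_of_notMem h1 (Set.toFinite _), ← Set.ncard_univ]
    exact Set.ncard_le_ncard (Set.subset_univ _) (Set.toFinite _)
  have c4 := hidx M hM
  have c5 := hidx L hL
  omega

end Cfsg.Agent.Lib.Helper2.Schmidt
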