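import Mathlib

set_option autoImplicit false

namespace Cfsg.Agent.Lib.Helper2.Solvable

variable {G : Type*} [Group G]

/-- Elements of order dividing `p` in a normal abelian subgroup, as a subgroup. -/
def omegaAb (D : Subgroup G) (hD : ∀ x ∈ D, ∀ y ∈ D, x * y = y * x) (p : ℕ) : Subgroup G where
  carrier := {x | x ∈ D ∧ x ^ p = 1}
  one_mem' := ⟨D.one_mem, one_pow p⟩
  mul_mem' := by
    rintro a b ⟨ha, ha'⟩ ⟨hb, hb'⟩
    refine ⟨D.mul_mem ha hb, ?_⟩
    have : Commute a b := hD a ha b hb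
    rw [this.mul_pow, ha', hb', one_mul]
  inv_mem' := by
    rintro a ⟨ha, ha'⟩
    exact ⟨D.inv_mem ha, by rw [inv_pow, ha', inv_one]⟩

theorem mem_omegaAb {D : Subgroup G} {hD : ∀ x ∈ D, ∀ y ∈ D, x * y = y * x} {p : ℕ} {x : G} :
    x ∈ omegaAb D hD p ↔ x ∈ D ∧ x ^ p = 1 := Iff.rfl

/-- A nontrivial solvable group has a nontrivial abelian normal (indeed characteristic) subgroup. -/
theorem exists_abelian_characteristic [Group.IsSolvable G] [Nontrivial G] :
    ∃ D : Subgroup G, D.Characteristic ∧ D ≠ ⊥ ∧ ∀ x ∈ D, ∀ y ∈ D, x * y = y * x := by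
  classical
  have hex : ∃ n, derivedSeries G n = ⊥ := Group.IsSolvable.solvable
  set n := Nat.find hex with hn
  have hn0 : derivedSeries G n = ⊥ := Nat.find_spec hex
  have hpos : n ≠ 0 := by
    intro h0
    rw [h0, derivedSeries_zero] at hn0
    exact top_ne_bot hn0
  obtain ⟨m, hm⟩ := Nat.exists_eq_succ_of_ne_zero hpos
  refine ⟨derivedSeries G m, inferInstance, ?_, ?_⟩
  · have : m < n := by omega
    exact Nat.find_min hex this
  · intro x hx y hy
    have h1 : ⁅derivedSeries G m, derivedSeries G m⁆ = ⊥ := by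
      rw [← derivedSeries_succ, ← Nat.succ_eq_add_one, ← hm]; exact hn0
    have h2 := Subgroup.commutator_mem_commutator hx hy
    rw [h1, Subgroup.mem_bot, commutatorElement_eq_one_iff_mul_comm] at h2
    exact h2

/-- A nontrivial finite solvable group has a nontrivial normal elementary abelian `p`-subgroup. -/
theorem exists_normal_elementary_abelian [Finite G] [Group.IsSolvable G] [Nontrivial G] :
    ∃ (p : ℕ) (N : Subgroup G), p.Prime ∧ N.Normal ∧ N ≠ ⊥ ∧ (∀ x ∈ N, x ^ p = 1) ∧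
      (∀ x ∈ N, ∀ y ∈ N, x * y = y * x) := by
  obtain ⟨D, hDc, hD1, hDab⟩ := exists_abelian_characteristic (G := G)
  have hDn : D.Normal := Subgroup.normal_of_characteristic D
  have hcard : Nat.card D ≠ 1 := by
    intro h
    exact hD1 (Subgroup.card_eq_one.mp h)
  obtain ⟨p, hp, hpd⟩ := Nat.exists_prime_and_dvd hcard
  have : Fact p.Prime := ⟨hp⟩
  obtain ⟨z, hz⟩ := exists_prime_orderOf_dvd_card' p hpd
  refine ⟨p, omegaAb D hDab p, hp, ?_, ?_, fun x hx => hx.2, fun x hx y hy => hDab x hx.1 y hy.1⟩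
  · constructor
    intro x hx g
    refine ⟨hDn.conj_mem x hx.1 g, ?_⟩
    rw [conj_pow, hx.2]; group
  · intro h
    have hzm : (z : G) ∈ omegaAb D hDab p := by
      refine ⟨z.2, ?_⟩
      have := pow_orderOf_eq_one z
      rw [hz] at this
      exact congrArg Subtype.val this
    rw [h, Subgroup.mem_bot] at hzm
    have : z = 1 := Subtype.ext hzm
    rw [this, orderOf_one] at hz
    exact hp.one_lt.ne hz

theorem isPGroup_of_pow_eq_one {p : ℕ} {N : Subgroup G} (h : ∀ x ∈ N, x ^ p = 1) : IsPGroup p N := by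
  intro x
  refine ⟨1, ?_⟩
  rw [pow_one]
  exact Subtype.ext (h x x.2)

end Cfsg.Agent.Lib.Helper2.Solvable
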