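import Mathlib
import Cfsg.Agent.Lib.Helper2.Conj
import Cfsg.Agent.Lib.Helper2.Index
import Cfsg.Agent.Lib.Helper2.SylowUtil

set_option autoImplicit false

namespace Cfsg.Agent.Lib.Helper2.SylowNumber

open scoped Pointwise
open Cfsg.Agent.Lib.Helper2.Conj Cfsg.Agent.Lib.Helper2.Index Cfsg.Agent.Lib.Helper2.SylowUtil

variable {G : Type*} [Group G] [Finite G] {p : ℕ} [Fact p.Prime]

/-- The number of Sylow subgroups of a subgroup `X` containing the Sylow subgroup `P` of `G`. -/
theorem card_sylow_eq_relIndex (P : Sylow p G) (X : Subgroup G) (hPX : (P : Subgroup G) ≤ X) :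
    Nat.card (Sylow p X) = (Subgroup.normalizer ((P : Subgroup G) : Set G)).relIndex X := by
  rw [(P.subtype hPX).card_eq_index_normalizer]
  have h1 := Subgroup.subgroupOf_normalizer_eq hPX
  rw [Subgroup.relIndex, h1]
  rfl

/-- The number of Sylow subgroups in terms of a Sylow subgroup of a subgroup `K`. -/
theorem card_sylow_eq_relIndex' (K : Subgroup G) (Q : Sylow p K) :
    Nat.card (Sylow p K) =
      (Subgroup.normalizer (((Q : Subgroup K).map K.subtype : Subgroup G) : Set G)).relIndex K := by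
  rw [Q.card_eq_index_normalizer]
  have h1 := Subgroup.subgroupOf_normalizer_eq (Subgroup.map_subtype_le (Q : Subgroup K))
  have h2 : ((Q : Subgroup K).map K.subtype).subgroupOf K = (Q : Subgroup K) :=
    Subgroup.comap_map_eq_self_of_injective K.subtype_injective _
  rw [Subgroup.relIndex, h1, h2]
  rfl

theorem card_sylow_quotient (K : Subgroup G) [K.Normal] (P : Sylow p G) :
    Nat.card (Sylow p (G ⧸ K)) =
      (Subgroup.normalizer (((P : Subgroup G) ⊔ K : Subgroup G) : Set G)).index := by
  rw [(P.mapSurjective (QuotientGroup.mk'_surjective K)).card_eq_index_normalizer]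
  have h1 : Subgroup.normalizer (((P : Subgroup G) ⊔ K : Subgroup G) : Set G) =
      (Subgroup.normalizer (((P : Subgroup G).map (QuotientGroup.mk' K) : Subgroup (G ⧸ K)) :
        Set (G ⧸ K))).comap (QuotientGroup.mk' K) := by
    rw [Subgroup.comap_normalizer_eq_of_surjective _ (QuotientGroup.mk'_surjective K),
      Subgroup.comap_map_eq, QuotientGroup.ker_mk']
  rw [h1, Subgroup.index_comap_of_surjective _ (QuotientGroup.mk'_surjective K)]
  rfl

/-- Frattini argument in index form. -/
theorem relIndex_normalizer_eq (K T : Subgroup G) (hKT : K ≤ T)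
    (hTN : T ≤ Subgroup.normalizer (K : Set G)) (Q : Sylow p K) :
    (Subgroup.normalizer (((Q : Subgroup K).map K.subtype : Subgroup G) : Set G)).relIndex T =
      (Subgroup.normalizer (((Q : Subgroup K).map K.subtype : Subgroup G) : Set G)).relIndex K := by
  set Q' := (Q : Subgroup K).map K.subtype with hQ'
  have hQ'K : Q' ≤ K := Subgroup.map_subtype_le _
  haveI hn : (K.subgroupOf T).Normal := (Subgroup.normal_subgroupOf_iff_le_normalizer hKT).mpr hTN
  have hsup : K.subgroupOf T ⊔ (Subgroup.normalizer (Q' : Set G)).subgroupOf T = ⊤ := by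
    rw [eq_top_iff]
    intro t _
    -- conjugate of Q' by t lies in K
    have h1 : MulAut.conj (t : G) • Q' ≤ K :=
      (conj_smul_mono hQ'K).trans (conj_smul_eq_iff_mem_normalizer.mpr (hTN t.2)).le
    have h2 : IsPGroup p ((MulAut.conj (t : G) • Q' : Subgroup G).subgroupOf K) := by
      apply IsPGroup.comap_of_injective _ K.subtype K.subtype_injective
      rw [smul_eq_map]
      exact (Q.2.map _).map _
    obtain ⟨R, hR⟩ := h2.exists_le_sylow
    obtain ⟨k, hk⟩ := MulAction.exists_smul_eq K R Q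
    have h3 : MulAut.conj ((k : G) * t) • Q' ≤ Q' := by
      intro x hx
      rw [conj_mul_smul, mem_conj_smul] at hx
      have hxK : (k : G)⁻¹ * x * k ∈ K := h1 hx
      have h4 : (⟨(k : G)⁻¹ * x * k, hxK⟩ : K) ∈ R := hR (Subgroup.mem_subgroupOf.mpr hx)
      have h5 : k * (⟨(k : G)⁻¹ * x * k, hxK⟩ : K) * k⁻¹ ∈ ((k • R : Sylow p K) : Subgroup K) := by
        rw [Sylow.coe_subgroup_smul, mem_conj_smul]
        have h6 : k⁻¹ * (k * (⟨(k : G)⁻¹ * x * k, hxK⟩ : K) * k⁻¹) * k
            = (⟨(k : G)⁻¹ * x * k, hxK⟩ : K) := by group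
        rw [h6]; exact h4
      rw [hk] at h5
      refine ⟨_, h5, ?_⟩
      simp only [Subgroup.subtype_apply, Subgroup.coe_mul, Subgroup.coe_inv]
      group
    have h4 : (k : G) * t ∈ Subgroup.normalizer (Q' : Set G) :=
      conj_smul_eq_iff_mem_normalizer.mp (conj_smul_eq_of_ge h3)
    have h5 : t = (⟨(k : G), hKT k.2⟩ : T)⁻¹ * (⟨(k : G), hKT k.2⟩ * t) := by group
    rw [h5]
    refine mul_mem (Subgroup.mem_sup_left ?_) (Subgroup.mem_sup_right ?_)
    · exact inv_mem (Subgroup.mem_subgroupOf.mpr k.2)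
    · exact Subgroup.mem_subgroupOf.mpr h4
  have h1 := relIndex_sup_of_normal (K.subgroupOf T) ((Subgroup.normalizer (Q' : Set G)).subgroupOf T)
  rw [hsup, Subgroup.relIndex_top_right, Subgroup.relIndex_subgroupOf hKT] at h1
  exact h1

/-- If `T` contains the normalizer of the Sylow subgroup `P`, then `n_p(G) = n_p(T) |G : T|`. -/
theorem card_sylow_eq_mul_index (P : Sylow p G) (T : Subgroup G)
    (hT : Subgroup.normalizer ((P : Subgroup G) : Set G) ≤ T) :
    Nat.card (Sylow p G) = Nat.card (Sylow p T) * T.index := by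
  rw [card_sylow_eq_relIndex P T (Subgroup.le_normalizer.trans hT), P.card_eq_index_normalizer]
  exact (Subgroup.relIndex_mul_index hT).symm

omit [Finite G] in
theorem normalizer_le_normalizer_sup (K : Subgroup G) [hK : K.Normal] (P : Subgroup G) :
    Subgroup.normalizer (P : Set G) ≤ Subgroup.normalizer ((P ⊔ K : Subgroup G) : Set G) := by
  intro g hg
  rw [← conj_smul_eq_iff_mem_normalizer, smul_eq_map, Subgroup.map_sup, ← smul_eq_map, ← smul_eq_map,
    conj_smul_eq_iff_mem_normalizer.mpr hg]
  congr 1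
  rw [conj_smul_eq_iff_mem_normalizer, Subgroup.normalizer_eq_top]
  exact Subgroup.mem_top g

/-- `n_p(G) = n_p(G/K) n_p(PK)`. -/
theorem card_sylow_eq_mul (K : Subgroup G) [K.Normal] (P : Sylow p G) :
    Nat.card (Sylow p G) =
      Nat.card (Sylow p (G ⧸ K)) * Nat.card (Sylow p ((P : Subgroup G) ⊔ K : Subgroup G)) := by
  set L := (P : Subgroup G) ⊔ K with hL
  have hPL : (P : Subgroup G) ≤ L := le_sup_left
  rw [card_sylow_quotient K P, card_sylow_eq_relIndex P L hPL, P.card_eq_index_normalizer]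
  have h1 := relIndex_normalizer_eq L (Subgroup.normalizer (L : Set G)) Subgroup.le_normalizer le_rfl
    (P.subtype hPL)
  rw [Sylow.coe_subtype, Subgroup.map_subgroupOf_eq_of_le hPL] at h1
  rw [← h1, mul_comm]
  exact (Subgroup.relIndex_mul_index (normalizer_le_normalizer_sup K P)).symm

end Cfsg.Agent.Lib.Helper2.SylowNumber
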